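import Groth.Agent.Lib.PDesc25.Main
import Groth.Agent.Lib.CohDesc25.CechBase
import Mathlib.Topology.Category.TopCat.Limits.Basic

/-!
# Proper surjective maps are of cohomological descent
-/

set_option autoImplicit false
set_option backward.isDefEq.respectTransparency false
set_option backward.isDefEq.respectTransparency.types false
set_option linter.unusedSectionVars false
set_option linter.style.haveILetI false

universe u

open CategoryTheory CategoryTheory.Limits Opposite TopologicalSpace Simplicial Filter Topology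

namespace GrothLib.PDesc25

open FibDesc GrothLib.CohDesc25

variable {X S : TopCat.{u}} {f : X ⟶ S}

theorem isProperMap_cBase (hf : IsProperMap f) (n : SimplexCategory) : IsProperMap (cBase f n) := by
  rw [isProperMap_iff_ultrafilter]
  refine ⟨(cBase f n).hom.continuous, fun U y hy => ?_⟩
  have hk : ∀ k, ∃ x, f x = y ∧ (U.map (cπ f n k) : Filter X) ≤ 𝓝 x := by
    intro k
    refine hf.ultrafilter_le_nhds_of_tendsto ?_
    rw [Ultrafilter.coe_map, tendsto_map'_iff]
    rw [show (⇑f ∘ ⇑(cπ f n k)) = ⇑(cBase f n) from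
      funext fun z => ConcreteCategory.congr_hom (WidePullback.π_arrow (fun _ : Fin (n.len + 1) => f) k) z]
    exact hy
  choose x hx hle using hk
  have hw : ∀ k, ptMap (x k) ≫ f = ptMap y := fun k => TopCat.hom_ext (ContinuousMap.ext fun _ => hx k)
  let z : ptSp ⟶ cN f n := WidePullback.lift (ptMap y) (fun k => ptMap (x k)) hw
  have hzb : z ≫ cBase f n = ptMap y := WidePullback.lift_base _ _ _ _
  have hzp : ∀ k, z ≫ cπ f n k = ptMap (x k) := fun k => WidePullback.lift_π _ _ _ _ k
  have hz₁ : cBase f n (z PUnit.unit) = y := ConcreteCategory.congr_hom hzb PUnit.unit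
  have hz₂ : ∀ k, cπ f n k (z PUnit.unit) = x k := fun k =>
    ConcreteCategory.congr_hom (hzp k) PUnit.unit
  refine ⟨z PUnit.unit, hz₁, ?_⟩
  rw [show (𝓝 (z PUnit.unit)) = @nhds _ (cN f n).str (z PUnit.unit) from rfl, TopCat.limit_topology,
    nhds_iInf]
  refine le_iInf fun j => ?_
  rw [nhds_induced, ← map_le_iff_le_comap]
  cases j with
  | none =>
    have h := hy
    rw [← hz₁] at h
    exact h
  | some k =>
    have h := hle k
    rw [Ultrafilter.coe_map, ← hz₂ k] at h
    exact h

theorem sep_cBase (hs : ∀ x x' : X, f x = f x' → x ≠ x' →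
    ∃ U V : Set X, IsOpen U ∧ IsOpen V ∧ x ∈ U ∧ x' ∈ V ∧ Disjoint U V)
    (n : SimplexCategory) (x x' : cN f n) (h : cBase f n x = cBase f n x') (hne : x ≠ x') :
    ∃ U V : Set (cN f n), IsOpen U ∧ IsOpen V ∧ x ∈ U ∧ x' ∈ V ∧ Disjoint U V := by
  obtain ⟨k, hk⟩ : ∃ k, cπ f n k x ≠ cπ f n k x' := by
    by_contra! hcon
    refine hne ?_
    have e : ptMap x = ptMap x' := by
      refine WidePullback.hom_ext (C := TopCat.{u}) (fun _ : Fin (n.len + 1) => f) _ _ (fun k => ?_) ?_
      · exact TopCat.hom_ext (ContinuousMap.ext fun _ => hcon k)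
      · exact TopCat.hom_ext (ContinuousMap.ext fun _ => h)
    exact ConcreteCategory.congr_hom e PUnit.unit
  have hp : ∀ z, f (cπ f n k z) = cBase f n z := fun z =>
    ConcreteCategory.congr_hom (WidePullback.π_arrow (fun _ : Fin (n.len + 1) => f) k) z
  obtain ⟨U, V, hU, hV, hxU, hxV, hd⟩ := hs _ _ (by rw [hp, hp, h]) hk
  exact ⟨cπ f n k ⁻¹' U, cπ f n k ⁻¹' V, hU.preimage (cπ f n k).hom.continuous,
    hV.preimage (cπ f n k).hom.continuous, hxU, hxV, hd.preimage _⟩

theorem properLevels_cech (hf : IsProperMap f) (hs : ∀ x x' : X, f x = f x' → x ≠ x' →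
    ∃ U V : Set X, IsOpen U ∧ IsOpen V ∧ x ∈ U ∧ x' ∈ V ∧ Disjoint U V) :
    ProperLevels (cechAug f) where
  proper j := isProperMap_cBase hf j.unop
  sep j := sep_cBase hs j.unop

theorem δ_succ_eq_shift {n : ℕ} (i : Fin (n + 2)) :
    (SimplexCategory.δ i.succ : ⦋n + 1⦌ ⟶ ⦋n + 2⦌) = shiftΔ.map (SimplexCategory.δ i) := by
  apply SimplexCategory.Hom.ext
  ext j : 2
  induction j using Fin.cases <;>
    simp [shiftΔ, SimplexCategory.δ, Fin.succAboveOrderEmb, Fin.succ_succAbove_succ]

/-- The fibres of the nerve of a surjective map have extra degeneracies. -/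
noncomputable def cechFibre (s : S) (x : X) (hx : f x = s) : FibreFam (cechAug f) s :=
  let sq : IsPullback (pullback.fst f (ptMap s)) (pullback.snd f (ptMap s)) f (ptMap s) :=
    IsPullback.of_hasPullback f (ptMap s)
  let f' : pullback f (ptMap s) ⟶ ptSp := pullback.snd f (ptMap s)
  let sc : ptSp ⟶ pullback f (ptMap s) :=
    pullback.lift (ptMap x) (𝟙 _) (TopCat.hom_ext (ContinuousMap.ext fun _ => hx))
  have hsc : sc ≫ f' = 𝟙 _ := pullback.lift_snd _ _ _
  let R := cechRetraction f' sc hsc
  { F := toAug SimplexCategory ⋙ cechAug f'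
    κ := fun j => (cechMap sq).app ((toAug SimplexCategory).obj j)
    κ_nat := fun θ => (cechMap sq).naturality ((toAug SimplexCategory).map θ)
    q := fun j => cBase f' j.unop
    sq := fun j => isPullback_cechMap sq j.unop
    σ := fun n => R.σ (op ⦋n⦌)
    σ_zero := fun n => by
      have h := R.σ_δ (op ⦋n⦌)
      exact h
    σ_succ := fun n i => by
      have h := R.σ_nat (j := op ⦋n + 1⦌) (k := op ⦋n⦌) (SimplexCategory.δ i).op
      rw [δ_succ_eq_shift i]
      exact h.symm
    sec₀ := R.s
    σ_sec := by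
      have h := R.σ_v (op ⦋0⦌)
      rw [show (SimplexCategory.δ (1 : Fin 2) : ⦋0⦌ ⟶ ⦋1⦌) = vertexΔ ⦋0⦌ from by
        apply SimplexCategory.Hom.ext
        ext j : 2
        fin_cases j
        rfl]
      exact h }

theorem isCohDescentMap_of_proper (hf : IsProperMap f) (hs : ∀ x x' : X, f x = f x' → x ≠ x' →
    ∃ U V : Set X, IsOpen U ∧ IsOpen V ∧ x ∈ U ∧ x' ∈ V ∧ Disjoint U V)
    (hsurj : Function.Surjective f) : FibDesc.IsCohDescentMap f :=
  isCohDescentTop_of_fibreFam (properLevels_cech hf hs)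
    (fun s => cechFibre s (hsurj s).choose (hsurj s).choose_spec)

end GrothLib.PDesc25
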