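import Groth.Agent.Lib.PBC25.BaseChange

/-!
# Maps between inverse images along commutative squares
-/

set_option autoImplicit false
set_option backward.isDefEq.respectTransparency false
set_option backward.isDefEq.respectTransparency.types false

universe u

open CategoryTheory CategoryTheory.Limits Opposite TopologicalSpace

namespace GrothLib.PDesc25

open GrothLib.PBC25

section Ext

variable {K X : TopCat.{u}} (i : K ⟶ X) {G : CohTop.Ab X} {H : CohTop.Ab K}

/-- Maps out of an inverse image agree if they agree on sections from downstairs. -/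
theorem pull_hom_ext (φ ψ : (CohTop.pull i).obj G ⟶ H)
    (h : ∀ (V : Opens X) (s : G.obj.obj (op V)),
      φ.hom.app (op ((Opens.map i).obj V)) (sec i G le_rfl s) =
        ψ.hom.app (op ((Opens.map i).obj V)) (sec i G le_rfl s)) : φ = ψ := by
  apply ((TopCat.Sheaf.pullbackPushforwardAdjunction AddCommGrpCat.{u} i).homEquiv G H).injective
  rw [Adjunction.homEquiv_unit, Adjunction.homEquiv_unit]
  apply Sheaf.hom_ext
  ext V s
  have e : sec i G (le_rfl : (Opens.map i).obj V.unop ≤ _) s =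
      ((TopCat.Sheaf.pullbackPushforwardAdjunction AddCommGrpCat.{u} i).unit.app G).hom.app V s :=
    (congrArg (fun t => ((CohTop.pull i).obj G).obj.map t _)
      (show (homOfLE (le_rfl : (Opens.map i).obj V.unop ≤ _)).op = 𝟙 _ from rfl)).trans
      (Functor.map_id_apply ((CohTop.pull i).obj G).obj _ _)
  exact (congrArg (φ.hom.app (op ((Opens.map i).obj V.unop))) e).symm.trans
    ((h V.unop s).trans (congrArg (ψ.hom.app (op ((Opens.map i).obj V.unop))) e))

end Ext

section Tr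

variable {K K' X X' : TopCat.{u}} {a : K' ⟶ K} {θ : X' ⟶ X} {i : K ⟶ X} {i' : K' ⟶ X'}

theorem tr_le (w : a ≫ i = i' ≫ θ) {W : Opens K} {V : Opens X} (h : W ≤ (Opens.map i).obj V) :
    (Opens.map a).obj W ≤ (Opens.map i').obj ((Opens.map θ).obj V) := by
  intro x hx
  change θ (i' x) ∈ V
  rw [← show i (a x) = θ (i' x) from ConcreteCategory.congr_hom w x]
  exact h hx

/-- The adjoint of the map of inverse images along a square. -/
noncomputable def trAdj (w : a ≫ i = i' ≫ θ) {G : CohTop.Ab X} {G' : CohTop.Ab X'}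
    (u : G ⟶ (CohTop.push θ).obj G') :
    G ⟶ (CohTop.push i).obj ((CohTop.push a).obj ((CohTop.pull i').obj G')) :=
  ObjectProperty.homMk
    { app := fun V => u.hom.app V ≫
        AddCommGrpCat.ofHom (sec i' G' (tr_le w (le_rfl : (Opens.map i).obj V.unop ≤ _)))
      naturality := fun V V' b => by
        ext s
        refine (congrArg (sec i' G' (tr_le w le_rfl)) (NatTrans.naturality_apply u.hom b s)).trans ?_
        refine (sec_res i' G' (leOfHom ((Opens.map θ).map b.unop)) (tr_le w le_rfl) (u.hom.app V s)).trans ?_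
        exact (res_sec i' G' (tr_le w le_rfl)
          (leOfHom ((Opens.map a).map ((Opens.map i).map b.unop))) (u.hom.app V s)).symm }

/-- The map of inverse images along a square. -/
noncomputable def tr (w : a ≫ i = i' ≫ θ) {G : CohTop.Ab X} {G' : CohTop.Ab X'}
    (u : G ⟶ (CohTop.push θ).obj G') :
    (CohTop.pull i).obj G ⟶ (CohTop.push a).obj ((CohTop.pull i').obj G') :=
  ((TopCat.Sheaf.pullbackPushforwardAdjunction AddCommGrpCat.{u} i).homEquiv _ _).symm (trAdj w u)

theorem tr_sec (w : a ≫ i = i' ≫ θ) {G : CohTop.Ab X} {G' : CohTop.Ab X'}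
    (u : G ⟶ (CohTop.push θ).obj G') {W : Opens K} {V : Opens X} (h : W ≤ (Opens.map i).obj V)
    (s : G.obj.obj (op V)) :
    (tr w u).hom.app (op W) (sec i G h s) = sec i' G' (tr_le w h) (u.hom.app (op V) s) :=
  (CohDesc25.homEquiv_symm_atHom (K := Opens.grothendieckTopology K) (Opens.map i) G
    (H := (CohTop.push a).obj ((CohTop.pull i').obj G')) (trAdj w u) (homOfLE h) s).trans
    (res_sec i' G' (tr_le w le_rfl) (fun _ hx => h hx) _)

theorem tr_naturality (w : a ≫ i = i' ≫ θ) {G H : CohTop.Ab X} {G' H' : CohTop.Ab X'}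
    (u : G ⟶ (CohTop.push θ).obj G') (v : H ⟶ (CohTop.push θ).obj H') (f : G ⟶ H) (f' : G' ⟶ H')
    (hc : f ≫ v = u ≫ (CohTop.push θ).map f') :
    (CohTop.pull i).map f ≫ tr w v = tr w u ≫ (CohTop.push a).map ((CohTop.pull i').map f') := by
  refine pull_hom_ext i _ _ fun V s => ?_
  refine (congrArg ((tr w v).hom.app _) (app_sec i G f le_rfl s)).trans ?_
  refine (tr_sec w v le_rfl _).trans ?_
  refine Eq.trans ?_ (congrArg (((CohTop.push a).map ((CohTop.pull i').map f')).hom.app _)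
    (tr_sec w u le_rfl s)).symm
  refine Eq.trans ?_ (app_sec i' G' f' (tr_le w le_rfl) _).symm
  exact congrArg (sec i' H' (tr_le w le_rfl))
    (ConcreteCategory.congr_hom (NatTrans.congr_app (congrArg (fun t => t.hom) hc) (op V)) s)

end Tr

section Comp

variable {K K' K'' X X' X'' : TopCat.{u}} {a : K' ⟶ K} {θ : X' ⟶ X} {a' : K'' ⟶ K'} {θ' : X'' ⟶ X'}
  {i : K ⟶ X} {i' : K' ⟶ X'} {i'' : K'' ⟶ X''}

theorem tr_comp (w : a ≫ i = i' ≫ θ) (w' : a' ≫ i' = i'' ≫ θ')
    (w'' : (a' ≫ a) ≫ i = i'' ≫ θ' ≫ θ)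
    {G : CohTop.Ab X} {G' : CohTop.Ab X'} {G'' : CohTop.Ab X''}
    (u : G ⟶ (CohTop.push θ).obj G') (u' : G' ⟶ (CohTop.push θ').obj G'') :
    tr w u ≫ (CohTop.push a).map (tr w' u') =
      tr (a := a' ≫ a) (θ := θ' ≫ θ) w'' (u ≫ (CohTop.push θ).map u') := by
  refine pull_hom_ext i _ _ fun V s => ?_
  refine (congrArg (((CohTop.push a).map (tr w' u')).hom.app _) (tr_sec w u le_rfl s)).trans ?_
  refine (tr_sec w' u' (tr_le w le_rfl) _).trans ?_
  exact (tr_sec (a := a' ≫ a) (θ := θ' ≫ θ) w'' (u ≫ (CohTop.push θ).map u') le_rfl s).symm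

end Comp

theorem tr_id {K X : TopCat.{u}} (i : K ⟶ X) (w : 𝟙 K ≫ i = i ≫ 𝟙 X) (G : CohTop.Ab X) :
    tr (a := 𝟙 K) (θ := 𝟙 X) w (G' := G) (𝟙 G) = 𝟙 ((CohTop.pull i).obj G) := by
  refine pull_hom_ext i _ _ fun V s => ?_
  exact tr_sec w (𝟙 G) le_rfl s

theorem tr_id_pull {K X : TopCat.{u}} (i : K ⟶ X) (w : 𝟙 K ≫ i = i ≫ 𝟙 X) {G G' : CohTop.Ab X}
    (u : G ⟶ G') : tr (a := 𝟙 K) (θ := 𝟙 X) w u = (CohTop.pull i).map u := by
  refine pull_hom_ext i _ _ fun V s => ?_
  exact (tr_sec w u le_rfl s).trans (app_sec i G u le_rfl s).symm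

end GrothLib.PDesc25
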