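import Groth.Agent.Lib.PDesc25.Moore
import Groth.Agent.Lib.PDesc25.Transfer
import Groth.Agent.Lib.CohDesc25.Cols

/-!
# The levels of inverse images from the base
-/

set_option autoImplicit false
set_option backward.isDefEq.respectTransparency false
set_option backward.isDefEq.respectTransparency.types false
set_option linter.unusedSectionVars false
set_option linter.style.haveILetI false
set_option maxHeartbeats 1000000

universe u

open CategoryTheory CategoryTheory.Limits Opposite Pseudofunctor Pseudofunctor.CoGrothendieck TopologicalSpace Simplicial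

namespace GrothLib.PDesc25

open FibDesc GrothLib.CohDesc25 GrothLib.PBC25

variable (Y : (WithInitial SimplexCategory)ᵒᵖ ⥤ TopCat.{u})

theorem injective_lev (j : SimplexCategoryᵒᵖ) (J : DAb Y) [Injective J] :
    Injective ((lev Y j).obj J) :=
  haveI := GrothLib.FibSite.isContinuous_ι (isPreFibSite_part Y) (op j.unop)
  haveI := GrothLib.FibSite.isCocontinuous_ι (isPreFibSite_part Y) (op j.unop)
  injective_restriction_of_disjFiltered (ι (part (topAug Y)) (op j.unop))
    (fun X => FamMap.disjFiltered_ι (n := j.unop) X) J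

/-- The arrow to the base over an open. -/
noncomputable def toBase {j : SimplexCategoryᵒᵖ} {W : Opens (Sp Y j)}
    {V : Opens (Y.obj (bot SimplexCategory))} (h : W ≤ over Y j V) :
    (incl (topAug Y)).obj (pObj Y j W) ⟶ (eps (topAug Y)).obj V :=
  aHom Y (toBot _) h

/-- A map from an inverse image, restricted to a level, on the base. -/
noncomputable def colAdj {A : BAb Y} {J : DAb Y} (φ : (Tpull Y).obj A ⟶ J) (j : SimplexCategoryᵒᵖ) :
    A ⟶ (CohTop.push (proj Y j)).obj ((lev Y j).obj J) :=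
  ObjectProperty.homMk
    { app := fun V => AddCommGrpCat.ofHom
        ((φ.hom.app (op (pObj Y j (over Y j V.unop)))).hom.comp (gA A (toBase Y le_rfl)))
      naturality := fun V V' g => by
        ext a
        let c : pObj Y j (over Y j V'.unop) ⟶ pObj Y j (over Y j V.unop) :=
          (ι (part (topAug Y)) j).map (homOfLE (fun x hx => le_of_hom (X := Y.obj (bot SimplexCategory)) g.unop hx) : over Y j V'.unop ⟶ over Y j V.unop)
        refine Eq.trans (congrArg (φ.hom.app _) ?_) (NatTrans.naturality_apply φ.hom c.op _)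
        refine (atHom_res (K := totAug (topAug Y) (topAugTop Y)) (eps (topAug Y)) A g.unop _ a).trans ?_
        refine Eq.trans ?_ (map_gA A c _ a).symm
        exact gA_eq A _ _ a }

theorem colAdj_app {A : BAb Y} {J : DAb Y} (φ : (Tpull Y).obj A ⟶ J) (j : SimplexCategoryᵒᵖ)
    (V : Opens (Y.obj (bot SimplexCategory))) (a : A.obj.obj (op V)) :
    (colAdj Y φ j).hom.app (op V) a =
      φ.hom.app (op (pObj Y j (over Y j V))) (gA A (toBase Y le_rfl) a) := rfl

theorem colAdj_natural {A A' : BAb Y} {J J' : DAb Y} (φ : (Tpull Y).obj A ⟶ J)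
    (φ' : (Tpull Y).obj A' ⟶ J') (f : A ⟶ A') (g : J ⟶ J')
    (hc : (Tpull Y).map f ≫ φ' = φ ≫ g) (j : SimplexCategoryᵒᵖ) :
    f ≫ colAdj Y φ' j = colAdj Y φ j ≫ (CohTop.push (proj Y j)).map ((lev Y j).map g) := by
  apply Sheaf.hom_ext
  ext V a
  let X := op (pObj Y j (over Y j V.unop))
  refine Eq.trans ?_ (ConcreteCategory.congr_hom
    (NatTrans.congr_app (congrArg (fun t => t.hom) hc) X) (gA A (toBase Y le_rfl) a))
  exact congrArg (φ'.hom.app X)
    (app_atHom (K := totAug (topAug Y) (topAugTop Y)) (eps (topAug Y)) A f _ a).symm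

theorem colAdj_levMap {A : BAb Y} {J : DAb Y} (φ : (Tpull Y).obj A ⟶ J) {j k : SimplexCategoryᵒᵖ}
    (θ : j ⟶ k) (V : Opens (Y.obj (bot SimplexCategory))) (a : A.obj.obj (op V)) :
    J.obj.map ((overFun Y V).map θ).op ((colAdj Y φ k).hom.app (op V) a) =
      (colAdj Y φ j).hom.app (op V) a := by
  refine (NatTrans.naturality_apply φ.hom ((overFun Y V).map θ).op _).symm.trans ?_
  exact congrArg (φ.hom.app _) ((map_gA A _ _ a).trans (gA_eq A _ _ a))

theorem colAdj_rows_map {A : BAb Y} {J : DAb Y} (φ : (Tpull Y).obj A ⟶ J) {n k : SimplexCategory}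
    (θ : n ⟶ k) : colAdj Y φ (op n) ≫ ((rows Y).obj J).map θ = colAdj Y φ (op k) := by
  apply Sheaf.hom_ext
  ext V a
  exact colAdj_levMap Y φ θ.op V.unop a

theorem transpose_rowAug {A : BAb Y} {J : DAb Y} (φ : (Tpull Y).obj A ⟶ J) :
    (Tadj Y).homEquiv A J φ ≫ rowAug Y J = colAdj Y φ (op ⦋0⦌) := by
  apply Sheaf.hom_ext
  ext V a
  exact leg_homEquiv A J φ (aHom Y (toBot _) le_rfl) a

/-- Levels of inverse images from the base. -/
noncomputable def levPull (A : BAb Y) (j : SimplexCategoryᵒᵖ) :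
    (CohTop.pull (proj Y j)).obj A ⟶ (lev Y j).obj ((Tpull Y).obj A) :=
  ((TopCat.Sheaf.pullbackPushforwardAdjunction AddCommGrpCat.{u} (proj Y j)).homEquiv _ _).symm
    (colAdj Y (𝟙 ((Tpull Y).obj A)) j)

theorem levPull_sec (A : BAb Y) (j : SimplexCategoryᵒᵖ) {W : Opens (Sp Y j)}
    {V : Opens (Y.obj (bot SimplexCategory))} (h : W ≤ over Y j V) (a : A.obj.obj (op V)) :
    (levPull Y A j).hom.app (op W) (sec (proj Y j) A h a) = gA A (toBase Y h) a := by
  refine (CohDesc25.homEquiv_symm_atHom (K := Opens.grothendieckTopology (Sp Y j))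
    (Opens.map (proj Y j)) A (H := (lev Y j).obj ((Tpull Y).obj A))
    (colAdj Y (𝟙 ((Tpull Y).obj A)) j) (homOfLE h) a).trans ?_
  refine (map_gA A ((ι (part (topAug Y)) j).map (homOfLE h : W ⟶ over Y j V)) (toBase Y le_rfl) a).trans ?_
  exact gA_eq A _ _ a

theorem isIso_levPull (A : BAb Y) (j : SimplexCategoryᵒᵖ) : IsIso (levPull Y A j) := by
  have hle : ∀ {W : Opens (Sp Y j)} {V : Opens (Y.obj (bot SimplexCategory))}
      (b : (incl (topAug Y)).obj (pObj Y j W) ⟶ (eps (topAug Y)).obj V), W ≤ over Y j V :=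
    fun {W V} b w hw => by
      have h1 := le_of_aHom Y (b : aObj Y ((toAug SimplexCategory).obj j) W ⟶ aObj Y (bot SimplexCategory) V) hw
      rwa [toBot_unique b.base (toBot _)] at h1
  have hinj : Sheaf.IsLocallyInjective (levPull Y A j) := ⟨fun {U} z z' he => by
    intro x hx
    obtain ⟨W, hW, V, a, h, hxW, e⟩ := exists_sec_local (proj Y j) A (z - z') x hx
    have h0 : gA A (toBase Y h) a = 0 := by
      rw [← levPull_sec Y A j h a, ← e, app_res, map_sub, sub_eq_zero.2 he, map_zero]
    obtain ⟨V', hV', hxV, ha⟩ := local_gen_zero A (S := (toAug SimplexCategory).obj j) (W := W) a _ h0 x hxW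
    refine ⟨W ⊓ over Y j V', homOfLE (inf_le_left.trans hW), ?_, hxW, hxV⟩
    refine sub_eq_zero.1 ((map_sub _ _ _).symm.trans ?_)
    refine (res_res _ hW inf_le_left (z - z')).symm.trans ?_
    rw [e, res_sec, ← sec_res (proj Y j) A hV' (inf_le_right : W ⊓ over Y j V' ≤ over Y j V') a, ha,
      map_zero]⟩
  have hsurj : Sheaf.IsLocallySurjective (levPull Y A j) := ⟨fun {U} z => by
    intro x hx
    obtain ⟨W, hW, hxW, V, a, b, e⟩ := local_gA A (j := j) (U := U) z x hx
    refine ⟨W, homOfLE hW, ⟨sec (proj Y j) A (hle b) a, ?_⟩, hxW⟩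
    refine (levPull_sec Y A j (hle b) a).trans ((gA_eq A _ b a).trans e.symm)⟩
  exact (Sheaf.isLocallyBijective_iff_isIso _).1 ⟨hinj, hsurj⟩

theorem levPull_natural {A A' : BAb Y} (f : A ⟶ A') (j : SimplexCategoryᵒᵖ) :
    (CohTop.pull (proj Y j)).map f ≫ levPull Y A' j =
      levPull Y A j ≫ (lev Y j).map ((Tpull Y).map f) := by
  rw [levPull, levPull, ← Adjunction.homEquiv_naturality_left_symm,
    colAdj_natural Y (𝟙 _) (𝟙 _) f ((Tpull Y).map f)
      ((Category.comp_id _).trans (Category.id_comp _).symm) j,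
    ← Adjunction.homEquiv_naturality_right_symm]

theorem levPull_comp {A : BAb Y} {J : DAb Y} (φ : (Tpull Y).obj A ⟶ J) (j : SimplexCategoryᵒᵖ) :
    levPull Y A j ≫ (lev Y j).map φ =
      ((TopCat.Sheaf.pullbackPushforwardAdjunction AddCommGrpCat.{u} (proj Y j)).homEquiv _ _).symm
        (colAdj Y φ j) := by
  rw [levPull, ← Adjunction.homEquiv_naturality_right_symm]
  rfl

end GrothLib.PDesc25
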