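import Groth.Agent.Lib.PDesc25.Point
import Groth.Agent.Lib.CohDesc25.Criterion
import Groth.Agent.Lib.GrothSS.Acyclic
import Groth.Agent.Lib.SheafCoh.PushInj
import Mathlib.CategoryTheory.Abelian.GrothendieckCategory.EnoughInjectives

/-!
# Hypercohomology of inverse images, as a functor of the space over the base
-/

set_option autoImplicit false
set_option backward.isDefEq.respectTransparency false
set_option backward.isDefEq.respectTransparency.types false
set_option linter.unusedSectionVars false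
set_option linter.style.haveILetI false

universe u

open CategoryTheory CategoryTheory.Limits Opposite TopologicalSpace

namespace GrothLib.PDesc25

open GrothLib.PBC25

section Lifts

variable {A : Type*} [Category* A] [Abelian A] [HasDerivedCategory A]

theorem exists_lift_of_quasiIso {c L N : CochainComplex A ℤ} (ι : c ⟶ L) [QuasiIso ι]
    [N.IsKInjective] (r : c ⟶ N) : ∃ f : L ⟶ N, Nonempty (Homotopy (ι ≫ f) r) := by
  obtain ⟨f, hf⟩ := CohDesc25.Q_surjective
    (inv (DerivedCategory.Q.map ι) ≫ DerivedCategory.Q.map r)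
  refine ⟨f, CohDesc25.Q_injective ?_⟩
  rw [Functor.map_comp, hf, IsIso.hom_inv_id_assoc]

theorem homotopy_of_precomp {c L N : CochainComplex A ℤ} (ι : c ⟶ L) [QuasiIso ι]
    [N.IsKInjective] {f g : L ⟶ N} (h : Homotopy (ι ≫ f) (ι ≫ g)) : Nonempty (Homotopy f g) := by
  refine CohDesc25.Q_injective ((cancel_epi (DerivedCategory.Q.map ι)).1 ?_)
  rw [← Functor.map_comp, ← Functor.map_comp]
  exact CohDesc25.Q_map_eq h

end Lifts

/-- Inverse image of complexes. -/
noncomputable def pullC {K X : TopCat.{u}} (i : K ⟶ X) :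
    CochainComplex (CohTop.Ab X) ℤ ⥤ CochainComplex (CohTop.Ab K) ℤ :=
  haveI := additive_pull i
  (CohTop.pull i).mapHomologicalComplex (ComplexShape.up ℤ)

theorem pullC_map_f {K X : TopCat.{u}} (i : K ⟶ X) {G H : CochainComplex (CohTop.Ab X) ℤ}
    (f : G ⟶ H) (n : ℤ) : ((pullC i).map f).f n = (CohTop.pull i).map (f.f n) := rfl

theorem quasiIso_pullC {K X : TopCat.{u}} (i : K ⟶ X) {G H : CochainComplex (CohTop.Ab X) ℤ}
    (f : G ⟶ H) [QuasiIso f] : QuasiIso ((pullC i).map f) := by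
  haveI := additive_pull i
  haveI := SheafCoh.preservesFiniteLimits_pull i
  haveI := preservesFiniteColimits_pull i
  haveI : (CohTop.pull i).PreservesHomology := Functor.preservesHomologyOfExact _
  exact inferInstanceAs
    (QuasiIso (((CohTop.pull i).mapHomologicalComplex (ComplexShape.up ℤ)).map f))

instance isStrictlyGE_pullC {K X : TopCat.{u}} (i : K ⟶ X) (G : CochainComplex (CohTop.Ab X) ℤ)
    (m : ℤ) [G.IsStrictlyGE m] : ((pullC i).obj G).IsStrictlyGE m := by
  haveI := additive_pull i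
  exact inferInstanceAs (CochainComplex.IsStrictlyGE
    (((CohTop.pull i).mapHomologicalComplex (ComplexShape.up ℤ)).obj G) m)

/-- Direct image of complexes. -/
noncomputable abbrev pushC {K X : TopCat.{u}} (a : K ⟶ X) :
    CochainComplex (CohTop.Ab K) ℤ ⥤ CochainComplex (CohTop.Ab X) ℤ :=
  (CohTop.push a).mapHomologicalComplex (ComplexShape.up ℤ)

/-- Global sections of complexes. -/
noncomputable abbrev ΓC (K : TopCat.{u}) :
    CochainComplex (CohTop.Ab K) ℤ ⥤ CochainComplex AddCommGrpCat.{u} ℤ :=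
  (GrothSS.secAt (Opens.grothendieckTopology K) ⊤).mapHomologicalComplex (ComplexShape.up ℤ)

section TrC

variable {K K' X X' : TopCat.{u}} {a : K' ⟶ K} {θ : X' ⟶ X} {i : K ⟶ X} {i' : K' ⟶ X'}

/-- The map of inverse images of complexes along a square. -/
noncomputable def trC (w : a ≫ i = i' ≫ θ) {G : CochainComplex (CohTop.Ab X) ℤ}
    {G' : CochainComplex (CohTop.Ab X') ℤ} (u : G ⟶ (pushC θ).obj G') :
    (pullC i).obj G ⟶ (pushC a).obj ((pullC i').obj G') where
  f n := tr w (u.f n)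
  comm' n m _ := (tr_naturality w (u.f n) (u.f m) (G.d n m) (G'.d n m) (u.comm n m).symm).symm

theorem trC_f (w : a ≫ i = i' ≫ θ) {G : CochainComplex (CohTop.Ab X) ℤ}
    {G' : CochainComplex (CohTop.Ab X') ℤ} (u : G ⟶ (pushC θ).obj G') (n : ℤ) :
    (trC w u).f n = tr w (u.f n) := rfl

theorem trC_naturality (w : a ≫ i = i' ≫ θ) {G H : CochainComplex (CohTop.Ab X) ℤ}
    {G' H' : CochainComplex (CohTop.Ab X') ℤ}
    (u : G ⟶ (pushC θ).obj G') (v : H ⟶ (pushC θ).obj H') (f : G ⟶ H) (f' : G' ⟶ H')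
    (hc : f ≫ v = u ≫ (pushC θ).map f') :
    (pullC i).map f ≫ trC w v = trC w u ≫ (pushC a).map ((pullC i').map f') := by
  ext1 n
  exact tr_naturality w (u.f n) (v.f n) (f.f n) (f'.f n) (congrArg (fun t => t.f n) hc)

end TrC

theorem trC_comp {K K' K'' X X' X'' : TopCat.{u}} {a : K' ⟶ K} {θ : X' ⟶ X} {a' : K'' ⟶ K'}
    {θ' : X'' ⟶ X'} {i : K ⟶ X} {i' : K' ⟶ X'} {i'' : K'' ⟶ X''}
    (w : a ≫ i = i' ≫ θ) (w' : a' ≫ i' = i'' ≫ θ')
    (w'' : (a' ≫ a) ≫ i = i'' ≫ θ' ≫ θ)
    {G : CochainComplex (CohTop.Ab X) ℤ} {G' : CochainComplex (CohTop.Ab X') ℤ}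
    {G'' : CochainComplex (CohTop.Ab X'') ℤ}
    (u : G ⟶ (pushC θ).obj G') (u' : G' ⟶ (pushC θ').obj G'') :
    trC w u ≫ (pushC a).map (trC w' u') =
      trC (a := a' ≫ a) (θ := θ' ≫ θ) w'' (u ≫ (pushC θ).map u') := by
  ext1 n
  exact tr_comp w w' w'' (u.f n) (u'.f n)

variable {S : TopCat.{u}} (I : CochainComplex (CohTop.Ab S) ℤ) (m : ℤ) [I.IsStrictlyGE m]

/-- An injective resolution of the inverse image of `I`. -/
structure Res {K : TopCat.{u}} (p : K ⟶ S) where
  L : CochainComplex (CohTop.Ab K) ℤ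
  ι : (pullC p).obj I ⟶ L
  qi : QuasiIso ι
  inj : ∀ n, Injective (L.X n)
  ge : L.IsStrictlyGE m

theorem nonempty_res {K : TopCat.{u}} (p : K ⟶ S) : Nonempty (Res I m p) := by
  obtain ⟨L, ι, hι, hinj, hge⟩ :=
    CochainComplex.Plus.modelCategoryQuillen.exists_quasiIso_injective ((pullC p).obj I) m
  exact ⟨⟨L, ι, hι, hinj, hge⟩⟩

variable {I m}

theorem Res.isKInjective {K : TopCat.{u}} {p : K ⟶ S} (R : Res I m p) : R.L.IsKInjective :=
  haveI := R.inj
  haveI := R.ge
  CochainComplex.isKInjective_of_injective R.L m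

theorem Res.isKInjective_push {K K' : TopCat.{u}} {p : K' ⟶ S} (R : Res I m p) (a : K' ⟶ K) :
    ((pushC a).obj R.L).IsKInjective :=
  haveI := R.ge
  haveI : ∀ n, Injective (((pushC a).obj R.L).X n) := fun n =>
    haveI := R.inj n
    SheafCoh.injective_push a (R.L.X n)
  CochainComplex.isKInjective_of_injective _ m

variable (I)

/-- The map of inverse images along a map over the base. -/
noncomputable def eC {K K' : TopCat.{u}} {p : K ⟶ S} {p' : K' ⟶ S} (a : K' ⟶ K) (w : a ≫ p = p') :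
    (pullC p).obj I ⟶ (pushC a).obj ((pullC p').obj I) :=
  trC (a := a) (θ := 𝟙 S) (i := p) (i' := p') (w.trans (Category.comp_id p').symm) (G' := I) (𝟙 I)

theorem eC_id {K : TopCat.{u}} (p : K ⟶ S) :
    eC I (𝟙 K) (Category.id_comp p) = 𝟙 ((pullC p).obj I) := by
  ext1 n
  exact tr_id p _ (I.X n)

theorem eC_comp {K K' K'' : TopCat.{u}} {p : K ⟶ S} {p' : K' ⟶ S} {p'' : K'' ⟶ S} (a : K' ⟶ K)
    (w : a ≫ p = p') (a' : K'' ⟶ K') (w' : a' ≫ p' = p'') :
    eC I (a' ≫ a) (by rw [Category.assoc, w, w'] : (a' ≫ a) ≫ p = p'') =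
      eC I a w ≫ (pushC a).map (eC I a' w') :=
  (trC_comp (a := a) (θ := 𝟙 S) (a' := a') (θ' := 𝟙 S) _ _
    (by rw [Category.assoc, w, w']; simp) (G := I) (G' := I) (G'' := I) (𝟙 I) (𝟙 I)).symm

variable {I}

section Map

variable {K K' : TopCat.{u}} {p : K ⟶ S} {p' : K' ⟶ S} (R : Res I m p) (R' : Res I m p')
  (a : K' ⟶ K) (w : a ≫ p = p')

theorem exists_resMap :
    ∃ f : R.L ⟶ (pushC a).obj R'.L,
      Nonempty (Homotopy (R.ι ≫ f) (eC I a w ≫ (pushC a).map R'.ι)) := by
  letI := HasDerivedCategory.standard (CohTop.Ab K)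
  haveI := R.qi
  haveI := R'.isKInjective_push a
  exact exists_lift_of_quasiIso R.ι _

/-- The induced map on hypercohomology. -/
noncomputable def hMap (q : ℤ) : ((ΓC K).obj R.L).homology q ⟶ ((ΓC K').obj R'.L).homology q :=
  HomologicalComplex.homologyMap ((ΓC K).map (exists_resMap R R' a w).choose) q

theorem hMap_eq (φ : R.L ⟶ (pushC a).obj R'.L)
    (h : Homotopy (R.ι ≫ φ) (eC I a w ≫ (pushC a).map R'.ι)) (q : ℤ) :
    hMap R R' a w q = HomologicalComplex.homologyMap ((ΓC K).map φ) q := by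
  letI := HasDerivedCategory.standard (CohTop.Ab K)
  haveI := R.qi
  haveI := R'.isKInjective_push a
  obtain ⟨h'⟩ := (exists_resMap R R' a w).choose_spec
  obtain ⟨k⟩ := homotopy_of_precomp R.ι (h'.trans h.symm)
  exact ((GrothSS.secAt (Opens.grothendieckTopology K) ⊤).mapHomotopy k).homologyMap_eq q

end Map

theorem hMap_id {K : TopCat.{u}} {p : K ⟶ S} (R : Res I m p) (q : ℤ) :
    hMap R R (𝟙 K) (Category.id_comp p) q = 𝟙 _ := by
  rw [hMap_eq R R (𝟙 K) (Category.id_comp p) (𝟙 R.L) (Homotopy.ofEq ?_) q]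
  · rw [CategoryTheory.Functor.map_id, HomologicalComplex.homologyMap_id]
  · rw [eC_id]
    exact (Category.comp_id _).trans (Category.id_comp _).symm

theorem hMap_comp {K K' K'' : TopCat.{u}} {p : K ⟶ S} {p' : K' ⟶ S} {p'' : K'' ⟶ S}
    (R : Res I m p) (R' : Res I m p') (R'' : Res I m p'') (a : K' ⟶ K) (w : a ≫ p = p')
    (a' : K'' ⟶ K') (w' : a' ≫ p' = p'') (q : ℤ) :
    hMap R R'' (a' ≫ a) (by rw [Category.assoc, w, w']) q =
      hMap R R' a w q ≫ hMap R' R'' a' w' q := by
  let f := (exists_resMap R R' a w).choose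
  let f' := (exists_resMap R' R'' a' w').choose
  obtain ⟨h⟩ := (exists_resMap R R' a w).choose_spec
  obtain ⟨h'⟩ := (exists_resMap R' R'' a' w').choose_spec
  have k₁ : Homotopy ((R.ι ≫ f) ≫ (pushC a).map f')
      ((eC I a w ≫ (pushC a).map R'.ι) ≫ (pushC a).map f') :=
    h.compRight _
  have k₂ : Homotopy (eC I a w ≫ (pushC a).map (R'.ι ≫ f'))
      (eC I a w ≫ (pushC a).map (eC I a' w' ≫ (pushC a').map R''.ι)) :=
    ((CohTop.push a).mapHomotopy h').compLeft _
  have k : Homotopy (R.ι ≫ f ≫ (pushC a).map f')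
      (eC I (a' ≫ a) (by rw [Category.assoc, w, w'] : (a' ≫ a) ≫ p = p'') ≫
        (pushC (a' ≫ a)).map R''.ι) :=
    ((Homotopy.ofEq (Category.assoc _ _ _).symm).trans k₁).trans
      ((Homotopy.ofEq (by rw [Category.assoc, Functor.map_comp])).trans
        (k₂.trans (Homotopy.ofEq (by
          rw [eC_comp I a w a' w', Functor.map_comp, Category.assoc]
          rfl))))
  rw [hMap_eq R R'' (a' ≫ a) _ (f ≫ (pushC a).map f') k q, Functor.map_comp,
    HomologicalComplex.homologyMap_comp]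
  rfl

theorem isAcyclicObj_of_soft {K : TopCat.{u}} [CompactSpace K] [T2Space K] (F : CohTop.Ab K)
    (hF : IsSoft F) :
    GrothSS.IsAcyclicObj (GrothSS.secAt (Opens.grothendieckTopology K) ⊤) F := fun k =>
  haveI := soft_HU_top_subsingleton F hF k
  IsZero.of_iso (AddCommGrpCat.isZero_of_subsingleton _)
    (GrothSS.rightDerivedSecAtIso (Opens.grothendieckTopology K) ⊤ F (k + 1))

section Compare

variable {K : TopCat.{u}} {p : K ⟶ S} (R : Res I m p) {N : CochainComplex (CohTop.Ab K) ℤ}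
  (ν : (pullC p).obj I ⟶ N)

theorem exists_compMap [QuasiIso ν] : ∃ g : N ⟶ R.L, Nonempty (Homotopy (ν ≫ g) R.ι) := by
  letI := HasDerivedCategory.standard (CohTop.Ab K)
  haveI := R.isKInjective
  exact exists_lift_of_quasiIso ν _

/-- The comparison with an acyclic resolution. -/
noncomputable def hComp [QuasiIso ν] (q : ℤ) :
    ((ΓC K).obj N).homology q ⟶ ((ΓC K).obj R.L).homology q :=
  HomologicalComplex.homologyMap ((ΓC K).map (exists_compMap R ν).choose) q

theorem isIso_hComp [QuasiIso ν] [N.IsStrictlyGE m]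
    (hN : ∀ n, GrothSS.IsAcyclicObj (GrothSS.secAt (Opens.grothendieckTopology K) ⊤) (N.X n))
    (q : ℤ) : IsIso (hComp R ν q) := by
  letI := HasDerivedCategory.standard (CohTop.Ab K)
  obtain ⟨h⟩ := (exists_compMap R ν).choose_spec
  haveI := R.qi
  haveI := R.ge
  haveI : QuasiIso (ν ≫ (exists_compMap R ν).choose) := by
    rw [← DerivedCategory.isIso_Q_map_iff_quasiIso, CohDesc25.Q_map_eq h]
    infer_instance
  haveI : QuasiIso (exists_compMap R ν).choose := quasiIso_of_comp_left ν _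
  haveI := GrothSS.quasiIso_map (GrothSS.secAt (Opens.grothendieckTopology K) ⊤)
    (exists_compMap R ν).choose m hN
    (fun n => haveI := R.inj n; GrothSS.isAcyclicObj_of_injective _ _)
  exact (quasiIsoAt_iff_isIso_homologyMap _ _).1 inferInstance

theorem hComp_naturality {K' : TopCat.{u}} {p' : K' ⟶ S} (R' : Res I m p')
    {N' : CochainComplex (CohTop.Ab K') ℤ} (ν' : (pullC p').obj I ⟶ N') [QuasiIso ν] [QuasiIso ν']
    (a : K' ⟶ K) (w : a ≫ p = p') (τ : N ⟶ (pushC a).obj N')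
    (hτ : ν ≫ τ = eC I a w ≫ (pushC a).map ν') (q : ℤ) :
    HomologicalComplex.homologyMap ((ΓC K).map τ) q ≫ hComp R' ν' q =
      hComp R ν q ≫ hMap R R' a w q := by
  letI := HasDerivedCategory.standard (CohTop.Ab K)
  haveI := R'.isKInjective_push a
  let g := (exists_compMap R ν).choose
  let g' := (exists_compMap R' ν').choose
  let f := (exists_resMap R R' a w).choose
  obtain ⟨h⟩ := (exists_compMap R ν).choose_spec
  obtain ⟨h'⟩ := (exists_compMap R' ν').choose_spec
  obtain ⟨hf⟩ := (exists_resMap R R' a w).choose_spec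
  have k₁ : Homotopy ((ν ≫ g) ≫ f) (eC I a w ≫ (pushC a).map R'.ι) := (h.compRight f).trans hf
  have k₂ : Homotopy (eC I a w ≫ (pushC a).map (ν' ≫ g')) (eC I a w ≫ (pushC a).map R'.ι) :=
    ((CohTop.push a).mapHomotopy h').compLeft _
  have e : eC I a w ≫ (pushC a).map (ν' ≫ g') = ν ≫ τ ≫ (pushC a).map g' := by
    rw [Functor.map_comp, ← Category.assoc, ← hτ, Category.assoc]
  obtain ⟨k⟩ := homotopy_of_precomp ν (f := g ≫ f) (g := τ ≫ (pushC a).map g')
    (((Homotopy.ofEq (Category.assoc _ _ _).symm).trans k₁).trans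
      (k₂.symm.trans (Homotopy.ofEq e)))
  have := ((GrothSS.secAt (Opens.grothendieckTopology K) ⊤).mapHomotopy k).homologyMap_eq q
  rw [Functor.map_comp, Functor.map_comp, HomologicalComplex.homologyMap_comp,
    HomologicalComplex.homologyMap_comp] at this
  exact this.symm

end Compare

end GrothLib.PDesc25
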