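import Groth.Agent.Lib.PDesc25.Column
import Groth.Agent.Lib.PDesc25.ConstCoh
import Groth.Agent.Lib.CohDesc25.Descent
import Mathlib.Algebra.Homology.HomologicalComplexAbelian

/-!
# The double complex of levels of a complex on an augmented simplicial space
-/

set_option autoImplicit false
set_option backward.isDefEq.respectTransparency false
set_option backward.isDefEq.respectTransparency.types false
set_option linter.unusedSectionVars false
set_option linter.style.haveILetI false
set_option maxHeartbeats 1000000

universe u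

open CategoryTheory CategoryTheory.Limits Opposite TopologicalSpace Simplicial

namespace GrothLib.PDesc25

open FibDesc GrothLib.CohDesc25 GrothLib.PBC25

variable (Y : (WithInitial SimplexCategory)ᵒᵖ ⥤ TopCat.{u})

/-- A level of a complex. -/
noncomputable abbrev levC (j : SimplexCategoryᵒᵖ) :
    CochainComplex (DAb Y) ℤ ⥤ CochainComplex (CohTop.Ab (Sp Y j)) ℤ :=
  haveI := GrothLib.FibSite.isContinuous_ι (isPreFibSite_part Y) j
  (lev Y j).mapHomologicalComplex (ComplexShape.up ℤ)

theorem exact_lev (j : SimplexCategoryᵒᵖ) :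
    PreservesFiniteLimits (lev Y j) ∧ PreservesFiniteColimits (lev Y j) :=
  haveI := GrothLib.FibSite.isContinuous_ι (isPreFibSite_part Y) j
  haveI := GrothLib.FibSite.isCocontinuous_ι (isPreFibSite_part Y) j
  preservesFinite_restriction _

variable (J : CochainComplex (DAb Y) ℤ)

/-- The row of a complex in degree `n`. -/
noncomputable abbrev rowC (n : SimplexCategory) :
    CochainComplex (CohTop.Ab (Y.obj (bot SimplexCategory))) ℤ :=
  (pushC (proj Y (op n))).obj ((levC Y (op n)).obj J)

/-- A simplicial map between rows. -/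
noncomputable def rowMap {n k : SimplexCategory} (a : n ⟶ k) : rowC Y J n ⟶ rowC Y J k where
  f p := ((rows Y).obj (J.X p)).map a
  comm' p p' _ := ((rows Y).map (J.d p p')).naturality a

theorem rowMap_f {n k : SimplexCategory} (a : n ⟶ k) (p : ℤ) :
    (rowMap Y J a).f p = ((rows Y).obj (J.X p)).map a := rfl

/-- The differential between rows. -/
noncomputable def rowCD (n : ℕ) : rowC Y J ⦋n⦌ ⟶ rowC Y J ⦋n + 1⦌ :=
  ∑ i : Fin (n + 2), (-1 : ℤ) ^ (i : ℕ) • rowMap Y J (SimplexCategory.δ i)

theorem rowCD_f (n : ℕ) (p : ℤ) : (rowCD Y J n).f p = rowD Y (J.X p) n := by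
  rw [rowCD]
  refine (Functor.map_sum (HomologicalComplex.eval (CohTop.Ab (Y.obj (bot SimplexCategory))) (ComplexShape.up ℤ) p) _ _).trans ?_
  refine Finset.sum_congr rfl fun i _ => ?_
  exact Functor.map_zsmul (HomologicalComplex.eval (CohTop.Ab (Y.obj (bot SimplexCategory))) (ComplexShape.up ℤ) p) ..

theorem rowCD_comp (n : ℕ) : rowCD Y J n ≫ rowCD Y J (n + 1) = 0 := by
  ext1 p
  rw [HomologicalComplex.comp_f, rowCD_f, rowCD_f]
  exact AlgebraicTopology.AlternatingCofaceMapComplex.d_squared _ n

/-- The augmentation of the rows. -/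
noncomputable def rowAugC :
    ((Ppush Y).mapHomologicalComplex (ComplexShape.up ℤ)).obj J ⟶ rowC Y J ⦋0⦌ where
  f p := rowAug Y (J.X p)
  comm' p p' _ := (rowAug_natural Y (J.d p p')).symm

theorem rowAugC_comp : rowAugC Y J ≫ rowCD Y J 0 = 0 := by
  ext1 p
  rw [HomologicalComplex.comp_f, rowCD_f]
  exact rowAug_d Y (J.X p)

theorem exact_of_sections {S : TopCat.{u}} (T : ShortComplex (CohTop.Ab S))
    (h : ∀ (V : Opens S) (x : T.X₂.obj.obj (op V)), T.g.hom.app (op V) x = 0 →
      ∃ y, T.f.hom.app (op V) y = x) : T.Exact := by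
  have hp : (T.map (sheafToPresheaf _ AddCommGrpCat.{u})).Exact := by
    rw [ShortComplex.exact_iff_isZero_homology]
    refine Functor.isZero _ fun V => ?_
    refine IsZero.of_iso ?_
      ((T.map (sheafToPresheaf _ AddCommGrpCat.{u})).mapHomologyIso ((evaluation _ _).obj V)).symm
    refine (ShortComplex.exact_iff_isZero_homology _).1 ?_
    rw [ShortComplex.ab_exact_iff]
    exact fun x hx => h V.unop x hx
  let a := presheafToSheaf (Opens.grothendieckTopology S) AddCommGrpCat.{u}
  haveI := Functor.preservesHomologyOfExact a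
  refine ShortComplex.exact_of_iso ?_ (hp.map a)
  exact (ShortComplex.isoMk
    (asIso ((sheafificationAdjunction _ _).counit.app T.X₁))
    (asIso ((sheafificationAdjunction _ _).counit.app T.X₂))
    (asIso ((sheafificationAdjunction _ _).counit.app T.X₃))
    ((sheafificationAdjunction _ _).counit.naturality T.f).symm
    ((sheafificationAdjunction _ _).counit.naturality T.g).symm)

theorem rowC_exact (hJ : ∀ p, Injective (J.X p)) (n : ℕ) :
    (ShortComplex.mk (rowCD Y J n) (rowCD Y J (n + 1)) (rowCD_comp Y J n)).Exact := by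
  refine HomologicalComplex.exact_of_degreewise_exact _ fun p => ?_
  refine exact_of_sections _ fun V x hx => ?_
  haveI := hJ p
  change ∃ y, ((rowCD Y J n).f p).hom.app (op V) y = x
  rw [rowCD_f]
  refine rowD_exact Y (J.X p) n V x ?_
  rw [← rowCD_f]
  exact hx

theorem rowAugC_exact :
    (ShortComplex.mk (rowAugC Y J) (rowCD Y J 0) (rowAugC_comp Y J)).Exact := by
  refine HomologicalComplex.exact_of_degreewise_exact _ fun p => ?_
  refine exact_of_sections _ fun V x hx => ?_
  refine rowAug_exact Y (J.X p) V x ?_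
  rw [← rowCD_f]
  exact hx

theorem mono_rowAugC : Mono (rowAugC Y J) := by
  haveI : ∀ p, Mono ((rowAugC Y J).f p) := fun p => by
    haveI : ∀ V, Mono ((rowAug Y (J.X p)).hom.app V) := fun V =>
      (AddCommGrpCat.mono_iff_injective _).2 (rowAug_injective Y (J.X p) V.unop)
    haveI : Mono (rowAug Y (J.X p)).hom := NatTrans.mono_of_mono_app _
    exact (sheafToPresheaf (Opens.grothendieckTopology (Y.obj (bot SimplexCategory))) AddCommGrpCat.{u}).mono_of_mono_map
      (inferInstanceAs (Mono (rowAug Y (J.X p)).hom))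
  exact HomologicalComplex.mono_of_mono_f (rowAugC Y J) this

variable {Y J}
variable [(Tpull Y).PreservesZeroMorphisms] {I : CochainComplex (BAb Y) ℤ}
  (φ : ((Tpull Y).mapHomologicalComplex (ComplexShape.up ℤ)).obj I ⟶ J)

/-- The columns of a map from an inverse image. -/
noncomputable def colC (j : SimplexCategoryᵒᵖ) :
    I ⟶ (pushC (proj Y j)).obj ((levC Y j).obj J) where
  f p := colAdj Y (φ.f p) j
  comm' p p' _ :=
    (colAdj_natural Y (φ.f p) (φ.f p') (I.d p p') (J.d p p') (φ.comm p p').symm j).symm

/-- Inverse images at a level, as a map of complexes. -/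
noncomputable def levPullC (j : SimplexCategoryᵒᵖ) :
    (pullC (proj Y j)).obj I ⟶
      (levC Y j).obj (((Tpull Y).mapHomologicalComplex (ComplexShape.up ℤ)).obj I) where
  f p := levPull Y (I.X p) j
  comm' p p' _ := (levPull_natural Y (I.d p p') j).symm

theorem quasiIso_levPullC_comp (j : SimplexCategoryᵒᵖ) [QuasiIso φ] :
    QuasiIso (levPullC (Y := Y) (I := I) j ≫ (levC Y j).map φ) := by
  haveI : ∀ p, IsIso ((levPullC (Y := Y) (I := I) j).f p) := fun p => isIso_levPull Y (I.X p) j
  haveI : IsIso (levPullC (Y := Y) (I := I) j) := HomologicalComplex.Hom.isIso_of_components _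
  haveI := (exact_lev Y j).1
  haveI := (exact_lev Y j).2
  haveI : (lev Y j).PreservesHomology := Functor.preservesHomologyOfExact _
  haveI : QuasiIso ((levC Y j).map φ) := inferInstance
  infer_instance

end GrothLib.PDesc25
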