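import Mathlib.Algebra.Homology.DerivedCategory.Ext.Map
import Mathlib.Algebra.Homology.DerivedCategory.Plus

/-!
# An exact functor fully faithful on bounded below derived categories preserves `Ext`
-/

set_option autoImplicit false
set_option backward.isDefEq.respectTransparency false
set_option linter.unusedSectionVars false

universe w w' v v' u u'

open CategoryTheory CategoryTheory.Limits CategoryTheory.Abelian

namespace GrothLib.PDesc25

variable {C : Type u} [Category.{v} C] [Abelian C] {D : Type u'} [Category.{v'} D] [Abelian D]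
  (F : C ⥤ D) [F.Additive] [PreservesFiniteLimits F] [PreservesFiniteColimits F]
  [HasExt.{w} C] [HasExt.{w'} D]

attribute [local instance] HasDerivedCategory.standard

/-- Full faithfulness on bounded below derived categories gives bijectivity on `Ext`. -/
theorem bijective_mapExactFunctor
    (h : ∀ K L : DerivedCategory.Plus C,
      Function.Bijective fun g : K.obj ⟶ L.obj => F.mapDerivedCategory.map g)
    (X Y : C) (n : ℕ) :
    Function.Bijective (Ext.mapExactFunctor F : Ext.{w} X Y n → Ext.{w'} (F.obj X) (F.obj Y) n) := by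
  let K : DerivedCategory.Plus C := (DerivedCategory.Plus.singleFunctor C 0).obj X
  let L : DerivedCategory.Plus C :=
    ⟨((DerivedCategory.singleFunctor C 0).obj Y)⟦(n : ℤ)⟧, ⟨-(n : ℤ),
      DerivedCategory.TStructure.t.isGE_shift ((DerivedCategory.singleFunctor C 0).obj Y) 0 (n : ℤ) (-(n : ℤ))⟩⟩
  have hm : Function.Bijective fun g : (DerivedCategory.singleFunctor C 0).obj X ⟶
      ((DerivedCategory.singleFunctor C 0).obj Y)⟦(n : ℤ)⟧ => F.mapDerivedCategory.map g := h K L
  let e₁ := ((F.mapDerivedCategorySingleFunctor 0).app X).symm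
  let e₂ := (shiftFunctor (DerivedCategory D) (n : ℤ)).mapIso ((F.mapDerivedCategorySingleFunctor 0).app Y)
  let e₃ := (F.mapDerivedCategory.commShiftIso (n : ℤ)).app ((DerivedCategory.singleFunctor C 0).obj Y)
  let Ψ : ((DerivedCategory.singleFunctor C 0).obj X ⟶
      ((DerivedCategory.singleFunctor C 0).obj Y)⟦(n : ℤ)⟧) →
      ((DerivedCategory.singleFunctor D 0).obj (F.obj X) ⟶
        ((DerivedCategory.singleFunctor D 0).obj (F.obj Y))⟦(n : ℤ)⟧) :=
    fun g => (e₁.symm.homCongr (e₃ ≪≫ e₂)) (F.mapDerivedCategory.map g)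
  have hΨ : Function.Bijective Ψ := (Equiv.bijective _).comp hm
  have hc : ∀ e : Ext.{w} X Y n, Ext.homEquiv (e.mapExactFunctor F) = Ψ (Ext.homEquiv e) := fun e => by
    refine (Ext.mapExactFunctor_hom F e).trans ?_
    simp [Ψ, e₁, e₂, e₃, ShiftedHom.map]
  have : (fun e : Ext.{w} X Y n => Ext.homEquiv (e.mapExactFunctor F)) = Ψ ∘ Ext.homEquiv := funext hc
  refine (Function.Bijective.of_comp_iff' Ext.homEquiv.bijective _).1 ?_
  change Function.Bijective fun e : Ext.{w} X Y n => Ext.homEquiv (e.mapExactFunctor F)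
  rw [this]
  exact hΨ.comp Ext.homEquiv.bijective

end GrothLib.PDesc25
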