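import Groth.Agent.Lib.PDesc25.Complexes
import Groth.Agent.Lib.PBC25.Flasque
import Groth.Agent.Lib.PBC25.Square

/-!
# Levels restricted to the fibres of a proper augmented simplicial space
-/

set_option autoImplicit false
set_option backward.isDefEq.respectTransparency false
set_option backward.isDefEq.respectTransparency.types false
set_option linter.unusedSectionVars false
set_option linter.style.haveILetI false
set_option maxHeartbeats 1000000

universe u

open CategoryTheory CategoryTheory.Limits Opposite TopologicalSpace Simplicial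

namespace GrothLib.PDesc25

open FibDesc GrothLib.CohDesc25 GrothLib.PBC25

variable {Y : (WithInitial SimplexCategory)ᵒᵖ ⥤ TopCat.{u}}

/-- Levels are proper and separated over the base. -/
structure ProperLevels (Y : (WithInitial SimplexCategory)ᵒᵖ ⥤ TopCat.{u}) : Prop where
  proper : ∀ j, IsProperMap (proj Y j)
  sep : ∀ j, ∀ x x' : Sp Y j, proj Y j x = proj Y j x' → x ≠ x' →
    ∃ U V : Set (Sp Y j), IsOpen U ∧ IsOpen V ∧ x ∈ U ∧ x' ∈ V ∧ Disjoint U V

/-- A fibre with an extra degeneracy. -/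
structure FibreFam (Y : (WithInitial SimplexCategory)ᵒᵖ ⥤ TopCat.{u}) (s : Y.obj (bot SimplexCategory)) where
  F : SimplexCategoryᵒᵖ ⥤ TopCat.{u}
  κ : ∀ j, F.obj j ⟶ Sp Y j
  κ_nat : ∀ {j k : SimplexCategoryᵒᵖ} (θ : j ⟶ k), F.map θ ≫ κ k = κ j ≫ sMap Y θ
  q : ∀ j, F.obj j ⟶ ptSp
  sq : ∀ j, IsPullback (κ j) (q j) (proj Y j) (ptMap s)
  σ : ∀ n : ℕ, F.obj (op ⦋n⦌) ⟶ F.obj (op ⦋n + 1⦌)
  σ_zero : ∀ n : ℕ, σ n ≫ F.map (SimplexCategory.δ (0 : Fin (n + 2))).op = 𝟙 _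
  σ_succ : ∀ (n : ℕ) (i : Fin (n + 2)),
    σ (n + 1) ≫ F.map (SimplexCategory.δ i.succ).op = F.map (SimplexCategory.δ i).op ≫ σ n
  sec₀ : ptSp ⟶ F.obj (op ⦋0⦌)
  σ_sec : σ 0 ≫ F.map (SimplexCategory.δ (1 : Fin 2)).op = q (op ⦋0⦌) ≫ sec₀

namespace FibreFam

variable {s : Y.obj (bot SimplexCategory)} (D : FibreFam Y s) (hY : ProperLevels Y)

/-- The structure map of the fibre to the base. -/
noncomputable abbrev p (j : SimplexCategoryᵒᵖ) : D.F.obj j ⟶ Y.obj (bot SimplexCategory) :=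
  D.κ j ≫ proj Y j

theorem map_p {j k : SimplexCategoryᵒᵖ} (θ : j ⟶ k) : D.F.map θ ≫ D.p k = D.p j := by
  rw [← Category.assoc, D.κ_nat, Category.assoc, sMap_proj]

theorem q_p (j : SimplexCategoryᵒᵖ) : D.q j ≫ ptMap s = D.p j := (D.sq j).w.symm

theorem sec₀_p : D.sec₀ ≫ D.p (op ⦋0⦌) = ptMap s := by
  rw [← D.q_p, ← Category.assoc]
  rfl

theorem σ_p (n : ℕ) : D.σ n ≫ D.p (op ⦋n + 1⦌) = D.p (op ⦋n⦌) := by
  rw [← D.map_p (SimplexCategory.δ (0 : Fin (n + 2))).op]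
  conv_rhs => rw [← Category.id_comp (D.p (op ⦋n⦌)), ← D.σ_zero n]
  rw [Category.assoc]

include hY in
theorem compact (j : SimplexCategoryᵒᵖ) : CompactSpace (D.F.obj j) := by
  refine ⟨?_⟩
  have h := (sq_isProperMap (D.sq j) (hY.proper j)).isCompact_preimage
    (isCompact_univ (X := PUnit.{u + 1}))
  exact h

include hY in
theorem separates (j : SimplexCategoryᵒᵖ) : Separates (D.κ j) := by
  intro a b hab
  obtain ⟨U, V, hU, hV, ha, hb, hd⟩ := sq_separates (D.sq j) (hY.sep j) a b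
    (Subsingleton.elim (α := PUnit.{u + 1}) _ _) hab
  exact ⟨⟨U, hU⟩, ⟨V, hV⟩, ha, hb, hd⟩

variable {J : CochainComplex (DAb Y) ℤ}

/-- The levels restricted to the fibre. -/
noncomputable abbrev N (J : CochainComplex (DAb Y) ℤ) (j : SimplexCategoryᵒᵖ) :
    CochainComplex (CohTop.Ab (D.F.obj j)) ℤ :=
  (pullC (D.κ j)).obj ((levC Y j).obj J)

/-- The level map as a map of complexes. -/
noncomputable def levMapC (J : CochainComplex (DAb Y) ℤ) {j k : SimplexCategoryᵒᵖ} (θ : j ⟶ k) :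
    (levC Y k).obj J ⟶ (pushC (sMap Y θ)).obj ((levC Y j).obj J) where
  f p := levMap Y (J.X p) θ
  comm' p p' _ := (levMap_natural Y (J.d p p') θ).symm

/-- The map between restricted levels. -/
noncomputable def τ (J : CochainComplex (DAb Y) ℤ) {j k : SimplexCategoryᵒᵖ} (θ : j ⟶ k) :
    D.N J k ⟶ (pushC (D.F.map θ)).obj (D.N J j) :=
  trC (D.κ_nat θ) (levMapC J θ)

include hY in
theorem acyclic_N (j : SimplexCategoryᵒᵖ) (hJ : ∀ p, Injective (J.X p)) (p : ℤ) :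
    GrothSS.IsAcyclicObj (GrothSS.secAt (Opens.grothendieckTopology (D.F.obj j)) ⊤) ((D.N J j).X p) := by
  haveI := D.compact hY j
  haveI := (D.separates hY j).t2
  haveI := hJ p
  haveI := injective_lev Y j (J.X p)
  haveI := SheafCoh.isFlasque_of_injective ((lev Y j).obj (J.X p))
  exact isAcyclicObj_of_soft _ (@isSoft_pull_of_flasque _ _ (D.κ j) ((lev Y j).obj (J.X p)) _ (D.separates hY j) this)

variable [(Tpull Y).PreservesZeroMorphisms] {I : CochainComplex (BAb Y) ℤ}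
  (φ : ((Tpull Y).mapHomologicalComplex (ComplexShape.up ℤ)).obj I ⟶ J)

/-- The resolution of the restricted complex. -/
noncomputable def ν (j : SimplexCategoryᵒᵖ) : (pullC (D.p j)).obj I ⟶ D.N J j :=
  trC (a := 𝟙 (D.F.obj j)) (θ := proj Y j) (i := D.p j) (i' := D.κ j)
    (Category.id_comp _) (colC φ j)

theorem ν_sec (j : SimplexCategoryᵒᵖ) (n : ℤ) {W : Opens (D.F.obj j)}
    {V : Opens (Y.obj (bot SimplexCategory))} (h : W ≤ (Opens.map (D.p j)).obj V)
    (a : (I.X n).obj.obj (op V)) :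
    ((D.ν φ j).f n).hom.app (op W) (sec (D.p j) (I.X n) h a) =
      sec (D.κ j) ((lev Y j).obj (J.X n)) (V := over Y j V) h
        ((colAdj Y (φ.f n) j).hom.app (op V) a) :=
  tr_sec (a := 𝟙 (D.F.obj j)) (θ := proj Y j) (i := D.p j) (i' := D.κ j)
    (Category.id_comp _) (colAdj Y (φ.f n) j) h a

theorem quasiIso_ν [QuasiIso φ] (j : SimplexCategoryᵒᵖ) : QuasiIso (D.ν φ j) := by
  let c : (pullC (D.κ j)).obj ((pullC (proj Y j)).obj I) ⟶ (pullC (D.p j)).obj I :=
    { f := fun n => (pullComp (D.κ j) (proj Y j)).hom.app (I.X n)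
      comm' := fun n n' _ => ((pullComp (D.κ j) (proj Y j)).hom.naturality (I.d n n')).symm }
  haveI : ∀ n, IsIso (c.f n) := fun n =>
    inferInstanceAs (IsIso ((pullComp (D.κ j) (proj Y j)).hom.app (I.X n)))
  haveI : IsIso c := HomologicalComplex.Hom.isIso_of_components _
  haveI := quasiIso_levPullC_comp φ j
  haveI := quasiIso_pullC (D.κ j) (levPullC (Y := Y) (I := I) j ≫ (levC Y j).map φ)
  have e : c ≫ D.ν φ j = (pullC (D.κ j)).map (levPullC (Y := Y) (I := I) j ≫ (levC Y j).map φ) := by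
    rw [← cancel_epi (inv c), IsIso.inv_hom_id_assoc]
    ext1 n
    refine pull_hom_ext (D.p j) _ _ fun V a => ?_
    refine (D.ν_sec φ j n le_rfl a).trans ?_
    rw [HomologicalComplex.comp_f]
    have hc : c.f n = (pullComp (D.κ j) (proj Y j)).hom.app (I.X n) := rfl
    have hi : ((inv c).f n).hom.app (op ((Opens.map (D.p j)).obj V)) (sec (D.p j) (I.X n) le_rfl a) =
        sec (D.κ j) ((CohTop.pull (proj Y j)).obj (I.X n)) (V := over Y j V) le_rfl
          (sec (proj Y j) (I.X n) le_rfl a) := by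
      refine (congrArg (((inv c).f n).hom.app _)
        (pullComp_sec (D.κ j) (proj Y j) (I.X n) (W₁ := over Y j V) le_rfl le_rfl a)).symm.trans ?_
      exact ConcreteCategory.congr_hom (congrArg (fun k => k.hom.app (op ((Opens.map (D.p j)).obj V)))
        (congrArg (fun t => t.f n) (IsIso.hom_inv_id c))) _
    refine Eq.trans ?_ (congrArg
      ((((pullC (D.κ j)).map (levPullC (Y := Y) (I := I) j ≫ (levC Y j).map φ)).f n).hom.app _) hi).symm
    refine Eq.trans ?_ (app_sec (D.κ j) _ (levPull Y (I.X n) j ≫ (lev Y j).map (φ.f n)) (W := (Opens.map (D.p j)).obj V) (V := over Y j V) le_rfl (sec (proj Y j) (I.X n) le_rfl a)).symm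
    refine congrArg (sec (D.κ j) ((lev Y j).obj (J.X n)) (V := over Y j V) le_rfl) ?_
    exact (congrArg ((φ.f n).hom.app _) (levPull_sec Y (I.X n) j le_rfl a)).symm
  haveI : QuasiIso (c ≫ D.ν φ j) := by rw [e]; infer_instance
  exact quasiIso_of_comp_left c _

theorem ν_τ {j k : SimplexCategoryᵒᵖ} (θ : j ⟶ k) :
    D.ν φ k ≫ D.τ J θ = eC I (D.F.map θ) (D.map_p θ) ≫ (pushC (D.F.map θ)).map (D.ν φ j) := by
  ext1 n
  refine pull_hom_ext (D.p k) _ _ fun V a => ?_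
  let W := (Opens.map (D.p k)).obj V
  refine (congrArg (((D.τ J θ).f n).hom.app _) (D.ν_sec φ k n le_rfl a)).trans ?_
  refine (tr_sec (D.κ_nat θ) (levMap Y (J.X n) θ) (W := W) (V := over Y k V) le_rfl _).trans ?_
  refine Eq.trans ?_ (congrArg (((D.ν φ j).f n).hom.app (op ((Opens.map (D.F.map θ)).obj W)))
    (tr_sec (a := D.F.map θ) (θ := 𝟙 _) (i := D.p k) (i' := D.p j)
      ((D.map_p θ).trans (Category.comp_id _).symm) (𝟙 (I.X n)) le_rfl a)).symm
  refine Eq.trans ?_ (D.ν_sec φ j n (V := V) _ a).symm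
  rw [← colAdj_levMap Y (φ.f n) θ V a]
  have hle : over Y j V ≤ (Opens.map (sMap Y θ)).obj (over Y k V) := over_le Y θ le_rfl
  refine Eq.trans (sec_res (D.κ j) ((lev Y j).obj (J.X n)) hle
    (W := (Opens.map (D.F.map θ)).obj W) (tr_le ((D.map_p θ).trans (Category.comp_id _).symm) le_rfl)
    ((levMap Y (J.X n) θ).hom.app (op (over Y k V)) ((colAdj Y (φ.f n) k).hom.app (op V) a))).symm ?_
  refine congrArg (sec (D.κ j) ((lev Y j).obj (J.X n)) _) ?_
  refine (Functor.map_comp_apply (J.X n).obj _ _ _).symm.trans ?_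
  exact congrArg (fun r => (J.X n).obj.map r ((colAdj Y (φ.f n) k).hom.app (op V) a))
    (Quiver.Hom.unop_inj (pHom_ext Y (Category.id_comp _)))

/-- The map from the point. -/
noncomputable def τpt :
    (pullC (ptMap s)).obj I ⟶ (pushC (D.q (op ⦋0⦌))).obj (D.N J (op ⦋0⦌)) :=
  trC (a := D.q (op ⦋0⦌)) (θ := proj Y (op ⦋0⦌)) (D.q_p (op ⦋0⦌)) (colC φ (op ⦋0⦌))

theorem id_τpt :
    𝟙 _ ≫ D.τpt φ = eC I (D.q (op ⦋0⦌)) (D.q_p (op ⦋0⦌)) ≫
      (pushC (D.q (op ⦋0⦌))).map (D.ν φ (op ⦋0⦌)) := by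
  rw [Category.id_comp]
  ext1 n
  refine pull_hom_ext (ptMap s) _ _ fun V a => ?_
  refine (tr_sec (D.q_p (op ⦋0⦌)) (colAdj Y (φ.f n) (op ⦋0⦌)) le_rfl a).trans ?_
  refine Eq.trans ?_ (congrArg (((D.ν φ (op ⦋0⦌)).f n).hom.app _)
    (tr_sec (a := D.q (op ⦋0⦌)) (θ := 𝟙 _) (i := ptMap s) (i' := D.p (op ⦋0⦌))
      ((D.q_p _).trans (Category.comp_id _).symm) (𝟙 (I.X n)) le_rfl a)).symm
  exact (D.ν_sec φ (op ⦋0⦌) n (V := V) _ a).symm

end FibreFam

end GrothLib.PDesc25
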