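import Mathlib.Algebra.Homology.HomologicalComplexAbelian
import Mathlib.Algebra.Homology.HomologySequence
import Mathlib.Algebra.Homology.Embedding.CochainComplex
import Mathlib.Algebra.Homology.ShortComplex.Ab
import Mathlib.Algebra.Category.Grp.Abelian
import Mathlib.Algebra.Category.Grp.Zero
import Mathlib.Algebra.Homology.QuasiIso

/-!
# An augmented double complex whose rows are exact, also on the cohomology of the columns
-/

set_option autoImplicit false
set_option linter.unusedSectionVars false
set_option linter.style.haveILetI false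

universe u

open CategoryTheory CategoryTheory.Limits

namespace GrothLib.PDesc25

variable (C : ℕ → CochainComplex AddCommGrpCat.{u} ℤ) (d : ∀ n, C n ⟶ C (n + 1))
  (w : ∀ n, d n ≫ d (n + 1) = 0)

/-- The kernel columns. -/
noncomputable abbrev Ker (n : ℕ) : CochainComplex AddCommGrpCat.{u} ℤ := kernel (d n)

/-- The short complex from a kernel column to the next one. -/
noncomputable abbrev kerSC (n : ℕ) : ShortComplex (CochainComplex AddCommGrpCat.{u} ℤ) :=
  ShortComplex.mk (kernel.ι (d n)) (kernel.lift (d (n + 1)) (d n) (w n))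
    (by rw [← cancel_mono (kernel.ι (d (n + 1))), Category.assoc, kernel.lift_ι, kernel.condition, zero_comp])

variable (hex : ∀ n, (ShortComplex.mk (d n) (d (n + 1)) (w n)).Exact)

include hex in
theorem kerSC_shortExact (n : ℕ) : (kerSC C d w n).ShortExact := by
  haveI : Epi (kernel.lift (d (n + 1)) (d n) (w n)) :=
    (ShortComplex.exact_iff_epi_kernel_lift _).1 (hex n)
  refine ShortComplex.ShortExact.mk' ?_ inferInstance inferInstance
  refine (ShortComplex.exact_iff_of_epi_of_isIso_of_mono
    (S₁ := kerSC C d w n) (S₂ := ShortComplex.mk (kernel.ι (d n)) (d n) (kernel.condition _))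
    { τ₁ := 𝟙 _, τ₂ := 𝟙 _, τ₃ := kernel.ι (d (n + 1)) }).2 ?_
  exact ShortComplex.exact_kernel _

open HomologicalComplex

include hex in
theorem injective_homologyMap_ι (a : ℤ) [∀ n, (C n).IsStrictlyGE a]
    (hH : ∀ (q : ℤ) (n : ℕ) (x : (C (n + 1)).homology q), homologyMap (d (n + 1)) q x = 0 →
      ∃ y, homologyMap (d n) q y = x) (k : ℕ) :
    ∀ (q : ℤ), q ≤ a - 1 + k → ∀ n, Function.Injective (homologyMap (kernel.ι (d n)) q) := by
  induction k with
  | zero =>
    intro q hq n x y _
    have hz : IsZero ((Ker C d n).homology q) := by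
      refine ShortComplex.isZero_homology_of_isZero_X₂ _ ?_
      change IsZero ((Ker C d n).X q)
      rw [IsZero.iff_id_eq_zero, ← cancel_mono ((kernel.ι (d n)).f q)]
      exact ((C n).isZero_of_isStrictlyGE a q (by simp only [Nat.cast_zero] at hq; omega)).eq_of_tgt _ _
    exact (AddCommGrpCat.subsingleton_of_isZero hz).elim x y
  | succ k ih =>
    intro q hq n
    rw [injective_iff_map_eq_zero]
    intro x hx
    obtain ⟨z, hz⟩ := (ShortComplex.ab_exact_iff _).1
      ((kerSC_shortExact C d w hex n).homology_exact₁ (q - 1) q (by simp)) x hx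
    have hinj := ih (q - 1) (by simp only [Nat.cast_succ] at hq; omega) (n + 1)
    have hc : homologyMap (d (n + 1)) (q - 1) (homologyMap (kernel.ι (d (n + 1))) (q - 1) z) = 0 := by
      rw [← ConcreteCategory.comp_apply, ← homologyMap_comp, kernel.condition, homologyMap_zero]
      rfl
    obtain ⟨y, hy⟩ := hH (q - 1) n _ hc
    have hy' : homologyMap (kerSC C d w n).g (q - 1) y = z := by
      refine hinj ?_
      rw [← ConcreteCategory.comp_apply, ← homologyMap_comp, kernel.lift_ι]
      exact hy
    have h0 := ConcreteCategory.congr_hom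
      ((kerSC_shortExact C d w hex n).comp_δ (q - 1) q (by simp)) y
    have h1 : (kerSC_shortExact C d w hex n).δ (q - 1) q (by simp)
        (homologyMap (kerSC C d w n).g (q - 1) y) = 0 := h0
    rw [hy'] at h1
    exact hz.symm.trans h1

include hex in
/-- If rows are exact and the rows of column cohomology are exact, a map to the kernel of the first
differential is a quasi-isomorphism as soon as it is so on cohomology. -/
theorem quasiIso_of_rows (a : ℤ) [∀ n, (C n).IsStrictlyGE a]
    (hH : ∀ (q : ℤ) (n : ℕ) (x : (C (n + 1)).homology q), homologyMap (d (n + 1)) q x = 0 →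
      ∃ y, homologyMap (d n) q y = x)
    {M Z : CochainComplex AddCommGrpCat.{u} ℤ} (u : M ⟶ Z) (ε : Z ⟶ C 0) [Mono ε]
    (wε : ε ≫ d 0 = 0) (hε : (ShortComplex.mk ε (d 0) wε).Exact)
    (h₁ : ∀ q, Function.Injective (homologyMap (u ≫ ε) q))
    (h₂ : ∀ (q : ℤ) (x : (C 0).homology q), homologyMap (d 0) q x = 0 →
      ∃ m, homologyMap (u ≫ ε) q m = x) : QuasiIso u := by
  haveI : IsIso (kernel.lift (d 0) ε wε) := by
    haveI : Epi (kernel.lift (d 0) ε wε) := (ShortComplex.exact_iff_epi_kernel_lift _).1 hε
    haveI : Mono (kernel.lift (d 0) ε wε) := mono_of_mono_fac (kernel.lift_ι _ _ _)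
    exact isIso_of_mono_of_epi _
  have hι : ∀ q, Function.Injective (homologyMap (kernel.ι (d 0)) q) := fun q =>
    injective_homologyMap_ι C d w hex a hH (q - a + 1).toNat q (by omega) 0
  have hεinj : ∀ q, Function.Injective (homologyMap ε q) := fun q => by
    rw [← kernel.lift_ι (d 0) ε wε, homologyMap_comp, AddCommGrpCat.coe_comp]
    refine (hι q).comp ?_
    exact ((ConcreteCategory.isIso_iff_bijective _).1
      (inferInstance : IsIso (homologyMap (kernel.lift (d 0) ε wε) q))).1
  refine ⟨fun q => ?_⟩
  rw [quasiIsoAt_iff_isIso_homologyMap, ConcreteCategory.isIso_iff_bijective]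
  constructor
  · intro x y e
    refine h₁ q ?_
    rw [homologyMap_comp]
    exact congrArg (homologyMap ε q) e
  · intro z
    obtain ⟨m, hm⟩ := h₂ q (homologyMap ε q z) (by
      rw [← ConcreteCategory.comp_apply, ← homologyMap_comp, wε, homologyMap_zero]
      rfl)
    refine ⟨m, hεinj q ?_⟩
    rw [homologyMap_comp] at hm
    exact hm

end GrothLib.PDesc25
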