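import Groth.Agent.Lib.PDesc25.Fibre
import Groth.Agent.Lib.PDesc25.Rows

/-!
# Stalks of rows and the cohomology of the fibres
-/

set_option autoImplicit false
set_option backward.isDefEq.respectTransparency false
set_option backward.isDefEq.respectTransparency.types false
set_option linter.unusedSectionVars false
set_option linter.style.haveILetI false
set_option maxHeartbeats 1000000

universe u

open CategoryTheory CategoryTheory.Limits Opposite TopologicalSpace Simplicial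

namespace GrothLib.PDesc25

open FibDesc GrothLib.CohDesc25 GrothLib.PBC25

section St

variable {S : TopCat.{u}} (s : S)

/-- Stalks of complexes. -/
noncomputable def StC : CochainComplex (CohTop.Ab S) ℤ ⥤ CochainComplex AddCommGrpCat.{u} ℤ :=
  haveI := additive_St s
  (St s).mapHomologicalComplex (ComplexShape.up ℤ)

theorem StC_map_f {K L : CochainComplex (CohTop.Ab S) ℤ} (f : K ⟶ L) (n : ℤ) :
    ((StC s).map f).f n = (St s).map (f.f n) := rfl

instance additive_StC : (StC s).Additive := by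
  haveI := additive_St s
  exact inferInstanceAs ((St s).mapHomologicalComplex (ComplexShape.up ℤ)).Additive

theorem exact_map_StC (T : ShortComplex (CochainComplex (CohTop.Ab S) ℤ)) (h : T.Exact) :
    (T.map (StC s)).Exact := by
  haveI := additive_St s
  haveI := (exact_St s).1
  haveI := (exact_St s).2
  haveI : (St s).PreservesHomology := Functor.preservesHomologyOfExact _
  refine HomologicalComplex.exact_of_degreewise_exact _ fun n => ?_
  exact (h.map (HomologicalComplex.eval (CohTop.Ab S) (ComplexShape.up ℤ) n)).map (St s)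

theorem mono_map_StC {K L : CochainComplex (CohTop.Ab S) ℤ} (f : K ⟶ L) [Mono f] :
    Mono ((StC s).map f) := by
  haveI := (exact_St s).1
  haveI : ∀ n, Mono (((StC s).map f).f n) := fun n => by
    haveI : Mono (f.f n) :=
      inferInstanceAs (Mono ((HomologicalComplex.eval (CohTop.Ab S) (ComplexShape.up ℤ) n).map f))
    haveI := preservesMonomorphisms_of_preservesLimitsOfShape (St s)
    exact inferInstanceAs (Mono ((St s).map (f.f n)))
  exact HomologicalComplex.mono_of_mono_f _ this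

instance isStrictlyGE_StC (K : CochainComplex (CohTop.Ab S) ℤ) (m : ℤ) [K.IsStrictlyGE m] :
    ((StC s).obj K).IsStrictlyGE m := by
  haveI := additive_St s
  exact inferInstanceAs
    (CochainComplex.IsStrictlyGE (((St s).mapHomologicalComplex (ComplexShape.up ℤ)).obj K) m)

/-- A section over a neighbourhood gives a stalk element. -/
noncomputable abbrev stSec (G : CohTop.Ab S) {V : Opens S} (hV : s ∈ V) :
    G.obj.obj (op V) →+ ((St s).obj G : AddCommGrpCat.{u}) :=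
  sec (ptMap s) G (top_le_pt hV)

theorem stSec_map {G H : CohTop.Ab S} (f : G ⟶ H) {V : Opens S} (hV : s ∈ V)
    (g : G.obj.obj (op V)) : (St s).map f (stSec s G hV g) = stSec s H hV (f.hom.app (op V) g) :=
  app_sec (ptMap s) G f (top_le_pt hV) g

theorem St_hom_ext {G : CohTop.Ab S} {A : AddCommGrpCat.{u}} (α β : (St s).obj G ⟶ A)
    (h : ∀ (V : Opens S) (hV : s ∈ V) (g : G.obj.obj (op V)),
      α (stSec s G hV g) = β (stSec s G hV g)) : α = β := by
  ext t
  obtain ⟨V, g, W, hW, hWt, hK, e⟩ :=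
    exists_near (ptMap s) G (separates_ptMap s) t isClosed_univ (by simp)
  obtain rfl : W = ⊤ := eq_top_iff.2 fun y _ => hK trivial
  rw [res_self] at e
  rw [e]
  exact h V (hW (show PUnit.unit ∈ (⊤ : Opens ptSp) from trivial)) g

end St

variable {Y : (WithInitial SimplexCategory)ᵒᵖ ⥤ TopCat.{u}}

namespace FibreFam

variable {s : Y.obj (bot SimplexCategory)} (D : FibreFam Y s) (hY : ProperLevels Y)
  (J : CochainComplex (DAb Y) ℤ)

/-- Stalks of a row as sections on the fibre. -/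
noncomputable def fibC (n : ℕ) :
    (StC s).obj (rowC Y J ⦋n⦌) ⟶ (ΓC (D.F.obj (op ⦋n⦌))).obj (D.N J (op ⦋n⦌)) where
  f p := fibreMap (D.sq (op ⦋n⦌)) ((lev Y (op ⦋n⦌)).obj (J.X p))
  comm' p p' _ := by
    refine St_hom_ext s _ _ fun V hV g => ?_
    let G := (lev Y (op ⦋n⦌)).obj (J.X p)
    let G' := (lev Y (op ⦋n⦌)).obj (J.X p')
    refine (congrArg (((ΓC (D.F.obj (op ⦋n⦌))).obj (D.N J (op ⦋n⦌))).d p p')
      (tr_sec (D.sq (op ⦋n⦌)).w.symm (𝟙 ((CohTop.push (proj Y (op ⦋n⦌))).obj G)) (top_le_pt hV) g)).trans ?_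
    refine (app_sec (D.κ (op ⦋n⦌)) G ((lev Y (op ⦋n⦌)).map (J.d p p')) _ g).trans ?_
    refine Eq.trans ?_ (congrArg (fibreMap (D.sq (op ⦋n⦌)) G')
      (stSec_map s ((CohTop.push (proj Y (op ⦋n⦌))).map ((lev Y (op ⦋n⦌)).map (J.d p p'))) hV g)).symm
    exact (tr_sec (D.sq (op ⦋n⦌)).w.symm (𝟙 ((CohTop.push (proj Y (op ⦋n⦌))).obj G')) (top_le_pt hV) _).symm

theorem fibC_stSec (n : ℕ) (p : ℤ) {V : Opens (Y.obj (bot SimplexCategory))} (hV : s ∈ V)
    (g : (J.X p).obj.obj (op (pObj Y (op ⦋n⦌) (over Y _ V)))) :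
    (D.fibC J n).f p (stSec s ((rows Y).obj (J.X p) |>.obj ⦋n⦌) hV g) =
      sec (D.κ (op ⦋n⦌)) ((lev Y (op ⦋n⦌)).obj (J.X p)) (V := over Y _ V)
        (tr_le (D.sq (op ⦋n⦌)).w.symm (top_le_pt hV)) g :=
  tr_sec (D.sq (op ⦋n⦌)).w.symm (𝟙 ((CohTop.push (proj Y (op ⦋n⦌))).obj ((lev Y (op ⦋n⦌)).obj (J.X p)))) (top_le_pt hV) g

include hY in
theorem isIso_fibC (n : ℕ) : IsIso (D.fibC J n) := by
  haveI : ∀ p, IsIso ((D.fibC J n).f p) := fun p =>
    isIso_fibreMap (D.sq (op ⦋n⦌)) (hY.proper _) (hY.sep _) _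
  exact HomologicalComplex.Hom.isIso_of_components _

theorem fibC_rowMap {n k : ℕ} (a : ⦋n⦌ ⟶ ⦋k⦌) :
    (StC s).map (rowMap Y J a) ≫ D.fibC J k =
      D.fibC J n ≫ (ΓC (D.F.obj (op ⦋n⦌))).map (D.τ J a.op) := by
  ext1 p
  refine St_hom_ext s _ _ fun V hV g => ?_
  let G := (lev Y (op ⦋n⦌)).obj (J.X p)
  let G' := (lev Y (op ⦋k⦌)).obj (J.X p)
  refine (congrArg ((D.fibC J k).f p) (stSec_map s (((rows Y).obj (J.X p)).map a) hV g)).trans ?_
  refine (D.fibC_stSec J k p hV _).trans ?_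
  refine Eq.trans ?_ (congrArg (((ΓC (D.F.obj (op ⦋n⦌))).map (D.τ J a.op)).f p)
    (D.fibC_stSec J n p hV g)).symm
  refine Eq.trans ?_ (tr_sec (D.κ_nat a.op) (levMap Y (J.X p) a.op) (W := (Opens.map (D.q (op ⦋n⦌))).obj ⊤)
    (V := over Y (op ⦋n⦌) V) (tr_le (D.sq (op ⦋n⦌)).w.symm (top_le_pt hV)) g).symm
  have hle : over Y (op ⦋k⦌) V ≤ (Opens.map (sMap Y a.op)).obj (over Y (op ⦋n⦌) V) := over_le Y _ le_rfl
  refine Eq.trans ?_ (sec_res (D.κ (op ⦋k⦌)) G' hle
    (tr_le (D.sq (op ⦋k⦌)).w.symm (top_le_pt hV)) ((levMap Y (J.X p) a.op).hom.app _ g))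
  refine congrArg (sec (D.κ (op ⦋k⦌)) G' _) ?_
  refine Eq.trans ?_ (Functor.map_comp_apply (J.X p).obj _ _ _)
  exact congrArg (fun r => (J.X p).obj.map r g)
    (Quiver.Hom.unop_inj (pHom_ext Y (Category.id_comp _).symm))

theorem fibC_rowAug [(Tpull Y).PreservesZeroMorphisms] {I : CochainComplex (BAb Y) ℤ}
    (φ : ((Tpull Y).mapHomologicalComplex (ComplexShape.up ℤ)).obj I ⟶ J)
    (u : I ⟶ ((Ppush Y).mapHomologicalComplex (ComplexShape.up ℤ)).obj J)
    (hu : ∀ p, u.f p ≫ rowAug Y (J.X p) = colAdj Y (φ.f p) (op ⦋0⦌)) :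
    (StC s).map (u ≫ rowAugC Y J) ≫ D.fibC J 0 =
      (show (StC s).obj I ⟶ (ΓC ptSp).obj ((pushC (D.q (op ⦋0⦌))).obj (D.N J (op ⦋0⦌))) from
        (show (StC s).obj I ⟶ (ΓC ptSp).obj ((pullC (ptMap s)).obj I) from
          { f := fun _ => 𝟙 _ }) ≫ (ΓC ptSp).map (D.τpt φ)) := by
  ext1 p
  refine St_hom_ext s _ _ fun V hV g => ?_
  refine (congrArg ((D.fibC J 0).f p)
    ((congrArg (fun r => (St s).map r (stSec s (I.X p) hV g)) (hu p)).trans
      (stSec_map s (colAdj Y (φ.f p) (op ⦋0⦌)) hV g))).trans ?_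
  refine (D.fibC_stSec J 0 p hV _).trans ?_
  exact (tr_sec (D.q_p (op ⦋0⦌)) (colAdj Y (φ.f p) (op ⦋0⦌)) (top_le_pt hV) g).symm

end FibreFam

end GrothLib.PDesc25
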