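import Groth.Agent.Lib.PDesc25.FibreRows
import Groth.Agent.Lib.CohDesc25.DerivedTwo

/-!
# Proper augmented simplicial spaces with extra degeneracies on the fibres are of cohomological descent
-/

set_option autoImplicit false
set_option backward.isDefEq.respectTransparency false
set_option backward.isDefEq.respectTransparency.types false
set_option linter.unusedSectionVars false
set_option linter.style.haveILetI false
set_option maxHeartbeats 2000000

universe u

open CategoryTheory CategoryTheory.Limits Opposite TopologicalSpace Simplicial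

namespace GrothLib.PDesc25

open FibDesc GrothLib.CohDesc25 GrothLib.PBC25

variable {Y : (WithInitial SimplexCategory)ᵒᵖ ⥤ TopCat.{u}}

theorem hMap_congr {S : TopCat.{u}} {I : CochainComplex (CohTop.Ab S) ℤ} {m : ℤ} [I.IsStrictlyGE m]
    {K K' : TopCat.{u}} {p : K ⟶ S} {p' : K' ⟶ S} (R : Res I m p) (R' : Res I m p')
    {a b : K' ⟶ K} (w : a ≫ p = p') (w' : b ≫ p = p') (e : a = b) (q : ℤ) :
    hMap R R' a w q = hMap R R' b w' q := by
  subst e
  rfl

/-- The extra degeneracy makes the cohomology of the fibres an exact augmented complex. -/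
theorem fibre_homotopy {G : ℕ → AddCommGrpCat.{u}} {P : AddCommGrpCat.{u}}
    (δ : ∀ n, Fin (n + 2) → (G n ⟶ G (n + 1))) (η : ∀ n, G (n + 1) ⟶ G n)
    (e : P ⟶ G 0) (e' : G 0 ⟶ P) (he : e ≫ e' = 𝟙 P)
    (h0 : ∀ n, δ n 0 ≫ η n = 𝟙 (G n)) (h1 : ∀ n i, δ (n + 1) i.succ ≫ η (n + 1) = η n ≫ δ n i)
    (h1' : δ 0 1 ≫ η 0 = e' ≫ e) :
    Function.Injective e ∧
      (∀ x, (∑ i : Fin 2, (-1 : ℤ) ^ (i : ℕ) • δ 0 i) x = 0 → ∃ y, e y = x) ∧
      ∀ n x, (∑ i : Fin (n + 3), (-1 : ℤ) ^ (i : ℕ) • δ (n + 1) i) x = 0 →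
        ∃ y, (∑ i : Fin (n + 2), (-1 : ℤ) ^ (i : ℕ) • δ n i) y = x := by
  refine ⟨Function.LeftInverse.injective (g := e') fun x => ConcreteCategory.congr_hom he x,
    fun x hx => ⟨e' x, ?_⟩, fun n x hx => ⟨η n x, ?_⟩⟩
  · have h := congrArg (η 0) hx
    rw [hom_sum_apply, map_sum, map_zero, Fin.sum_univ_two] at h
    have h0' : η 0 (((-1 : ℤ) ^ ((0 : Fin 2) : ℕ) • δ 0 0) x) = x := by
      simp only [Fin.val_zero, pow_zero, one_smul]
      exact ConcreteCategory.congr_hom (h0 0) x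
    have h1'' : η 0 (((-1 : ℤ) ^ ((1 : Fin 2) : ℕ) • δ 0 1) x) = -(e (e' x)) := by
      simp only [Fin.val_one, pow_one, neg_smul, one_smul]
      change η 0 (-(δ 0 1 x)) = _
      rw [map_neg]
      exact congrArg Neg.neg (ConcreteCategory.congr_hom h1' x)
    rw [h0', h1'', ← sub_eq_add_neg] at h
    exact (sub_eq_zero.1 h).symm
  · have h := congrArg (η (n + 1)) hx
    rw [hom_sum_apply, map_sum, map_zero, Fin.sum_univ_succ] at h
    simp only [AddCommGrpCat.hom_zsmul, AddMonoidHom.smul_apply, map_zsmul, Fin.val_zero, pow_zero,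
      one_smul] at h
    rw [show η (n + 1) (δ (n + 1) 0 x) = x from ConcreteCategory.congr_hom (h0 (n + 1)) x] at h
    rw [hom_sum_apply]
    refine Eq.trans ?_ (eq_neg_of_add_eq_zero_left h).symm
    rw [← Finset.sum_neg_distrib]
    refine Finset.sum_congr rfl fun i _ => ?_
    rw [show η (n + 1) (δ (n + 1) i.succ x) = δ n i (η n x) from
      ConcreteCategory.congr_hom (h1 n i) x, Fin.val_succ, pow_succ, mul_neg_one, neg_smul, neg_neg]
    rfl

section Main

variable {s : Y.obj (bot SimplexCategory)} (D : FibreFam Y s) (hY : ProperLevels Y)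
  [(Tpull Y).PreservesZeroMorphisms] {I : CochainComplex (BAb Y) ℤ} {J : CochainComplex (DAb Y) ℤ}

include D hY in
theorem quasiIso_St (m : ℤ) [hIge : CochainComplex.IsStrictlyGE (C := CohTop.Ab (Y.obj (bot SimplexCategory))) I m]
    [J.IsStrictlyGE m] (hJ : ∀ p, Injective (J.X p))
    (φ : ((Tpull Y).mapHomologicalComplex (ComplexShape.up ℤ)).obj I ⟶ J) [QuasiIso φ]
    (u : I ⟶ ((Ppush Y).mapHomologicalComplex (ComplexShape.up ℤ)).obj J)
    (hu : ∀ p, u.f p ≫ rowAug Y (J.X p) = colAdj Y (φ.f p) (op ⦋0⦌)) :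
    QuasiIso ((StC s).map u) := by
  let R : ∀ n : ℕ, Res I m (D.p (op ⦋n⦌)) := fun n => (nonempty_res I m _).some
  let R₀ : Res I m (ptMap s) := (nonempty_res I m _).some
  haveI : ∀ n : ℕ, QuasiIso (D.ν φ (op ⦋n⦌)) := fun n => D.quasiIso_ν φ _
  haveI : ∀ n : ℕ, (D.N J (op ⦋n⦌)).IsStrictlyGE m := fun n => inferInstance
  let Φ : ∀ (n : ℕ) (q : ℤ),
      ((StC s).obj (rowC Y J ⦋n⦌)).homology q ⟶ ((ΓC (D.F.obj (op ⦋n⦌))).obj (R n).L).homology q :=
    fun n q => HomologicalComplex.homologyMap (D.fibC J n) q ≫ hComp (R n) (D.ν φ (op ⦋n⦌)) q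
  have hΦ : ∀ n q, Function.Bijective (Φ n q) := fun n q => by
    haveI := D.isIso_fibC hY J n
    haveI := isIso_hComp (R n) (D.ν φ (op ⦋n⦌)) (D.acyclic_N hY _ hJ) q
    exact (ConcreteCategory.isIso_iff_bijective (Φ n q)).1 inferInstance
  let g : ∀ (q : ℤ) (n k : ℕ) (a : ⦋n⦌ ⟶ ⦋k⦌),
      ((ΓC (D.F.obj (op ⦋n⦌))).obj (R n).L).homology q ⟶
        ((ΓC (D.F.obj (op ⦋k⦌))).obj (R k).L).homology q :=
    fun q n k a => hMap (R n) (R k) (D.F.map a.op) (D.map_p a.op) q
  have hg : ∀ (q : ℤ) (n k : ℕ) (a : ⦋n⦌ ⟶ ⦋k⦌),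
      HomologicalComplex.homologyMap ((StC s).map (rowMap Y J a)) q ≫ Φ k q = Φ n q ≫ g q n k a := by
    intro q n k a
    have h1 := congrArg (fun t => HomologicalComplex.homologyMap t q) (D.fibC_rowMap J a)
    simp only [HomologicalComplex.homologyMap_comp] at h1
    have h2 := hComp_naturality (R n) (D.ν φ (op ⦋n⦌)) (R k) (D.ν φ (op ⦋k⦌)) (D.F.map a.op)
      (D.map_p a.op) (D.τ J a.op) (D.ν_τ φ a.op) q
    refine (Category.assoc _ _ _).symm.trans ?_
    refine (congrArg (fun t => t ≫ hComp (R k) (D.ν φ (op ⦋k⦌)) q) h1).trans ?_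
    refine (Category.assoc _ _ _).trans ?_
    refine Eq.trans ?_ (Category.assoc _ _ _).symm
    exact congrArg (fun t => HomologicalComplex.homologyMap (D.fibC J n) q ≫ t) h2
  let dG : ∀ (q : ℤ) (n : ℕ), ((ΓC (D.F.obj (op ⦋n⦌))).obj (R n).L).homology q ⟶
      ((ΓC (D.F.obj (op ⦋n + 1⦌))).obj (R (n + 1)).L).homology q :=
    fun q n => ∑ i : Fin (n + 2), (-1 : ℤ) ^ (i : ℕ) • g q n (n + 1) (SimplexCategory.δ i)
  have hd : ∀ (q : ℤ) (n : ℕ),
      HomologicalComplex.homologyMap ((StC s).map (rowCD Y J n)) q ≫ Φ (n + 1) q = Φ n q ≫ dG q n := by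
    intro q n
    have e : HomologicalComplex.homologyMap ((StC s).map (rowCD Y J n)) q =
        ∑ i : Fin (n + 2), (-1 : ℤ) ^ (i : ℕ) •
          HomologicalComplex.homologyMap ((StC s).map (rowMap Y J (SimplexCategory.δ i))) q := by
      change (HomologicalComplex.homologyFunctor _ _ q).map ((StC s).map (rowCD Y J n)) = _
      rw [rowCD, Functor.map_sum, Functor.map_sum]
      refine Finset.sum_congr rfl fun i _ => ?_
      rw [Functor.map_zsmul, Functor.map_zsmul]
      rfl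
    rw [e, Preadditive.sum_comp, Preadditive.comp_sum]
    refine Finset.sum_congr rfl fun i _ => ?_
    rw [Preadditive.zsmul_comp, Preadditive.comp_zsmul, hg]
  let ε := hMap R₀ (R 0) (D.q (op ⦋0⦌)) (D.q_p (op ⦋0⦌))
  let ε' := hMap (R 0) R₀ D.sec₀ D.sec₀_p
  let η : ∀ (q : ℤ) (n : ℕ), ((ΓC (D.F.obj (op ⦋n + 1⦌))).obj (R (n + 1)).L).homology q ⟶
      ((ΓC (D.F.obj (op ⦋n⦌))).obj (R n).L).homology q :=
    fun q n => hMap (R (n + 1)) (R n) (D.σ n) (D.σ_p n) q
  have hG := fun q => fibre_homotopy (fun n i => g q n (n + 1) (SimplexCategory.δ i)) (η q) (ε q) (ε' q)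
    (by
      refine (hMap_comp R₀ (R 0) R₀ _ _ _ _ q).symm.trans ?_
      exact (hMap_congr R₀ R₀ _ (Category.id_comp _) (TopCat.hom_ext (ContinuousMap.ext fun _ => rfl)) q).trans
        (hMap_id R₀ q))
    (fun n => by
      refine (hMap_comp (R n) (R (n + 1)) (R n) _ _ _ _ q).symm.trans ?_
      exact (hMap_congr (R n) (R n) _ (Category.id_comp _) (D.σ_zero n) q).trans (hMap_id (R n) q))
    (fun n i => by
      refine (hMap_comp (R (n + 1)) (R (n + 2)) (R (n + 1)) _ _ _ _ q).symm.trans ?_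
      refine Eq.trans ?_ (hMap_comp (R (n + 1)) (R n) (R (n + 1)) (D.σ n) (D.σ_p n)
        (D.F.map (SimplexCategory.δ i).op) (D.map_p _) q)
      exact hMap_congr _ _ _ _ (D.σ_succ n i) q)
    (by
      refine (hMap_comp (R 0) (R 1) (R 0) _ _ _ _ q).symm.trans ?_
      refine Eq.trans ?_ (hMap_comp (R 0) R₀ (R 0) D.sec₀ D.sec₀_p (D.q (op ⦋0⦌)) (D.q_p _) q)
      exact hMap_congr _ _ _ _ D.σ_sec q)
  -- stalks on the point
  haveI : QuasiIso (𝟙 ((pullC (ptMap s)).obj I)) := inferInstance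
  haveI : CochainComplex.IsStrictlyGE ((pullC (ptMap s)).obj I) m := @isStrictlyGE_pullC _ _ (ptMap s) I m hIge
  let i₀ : (StC s).obj I ⟶ (ΓC ptSp).obj ((pullC (ptMap s)).obj I) := { f := fun _ => 𝟙 _ }
  haveI : ∀ p, IsIso (i₀.f p) := fun p => inferInstanceAs (IsIso (𝟙 _))
  haveI : IsIso i₀ := HomologicalComplex.Hom.isIso_of_components _
  let Φ₀ : ∀ q : ℤ, ((StC s).obj I).homology q ⟶ ((ΓC ptSp).obj R₀.L).homology q :=
    fun q => HomologicalComplex.homologyMap i₀ q ≫ hComp R₀ (𝟙 _) q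
  have hΦ₀ : ∀ q, Function.Bijective (Φ₀ q) := fun q => by
    haveI : CompactSpace ptSp.{u} := inferInstanceAs (CompactSpace PUnit.{u + 1})
    haveI : T2Space ptSp.{u} := inferInstanceAs (T2Space PUnit.{u + 1})
    haveI := isIso_hComp R₀ (𝟙 ((pullC (ptMap s)).obj I))
      (fun p => isAcyclicObj_of_soft _ (isSoft_pt _)) q
    exact (ConcreteCategory.isIso_iff_bijective (Φ₀ q)).1 inferInstance
  have hε : ∀ q, HomologicalComplex.homologyMap ((StC s).map (u ≫ rowAugC Y J)) q ≫ Φ 0 q =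
      Φ₀ q ≫ ε q := by
    intro q
    have h1 := congrArg (fun t => HomologicalComplex.homologyMap t q) (D.fibC_rowAug J φ u hu)
    simp only [HomologicalComplex.homologyMap_comp] at h1
    have h2 := hComp_naturality R₀ (𝟙 ((pullC (ptMap s)).obj I)) (R 0) (D.ν φ (op ⦋0⦌))
      (D.q (op ⦋0⦌)) (D.q_p _) (D.τpt φ) (D.id_τpt φ) q
    refine (Category.assoc _ _ _).symm.trans ?_
    refine (congrArg (fun t => t ≫ hComp (R 0) (D.ν φ (op ⦋0⦌)) q) h1).trans ?_
    refine (Category.assoc _ _ _).trans ?_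
    refine Eq.trans ?_ (Category.assoc _ _ _).symm
    exact congrArg (fun t => HomologicalComplex.homologyMap i₀ q ≫ t) h2
  let C : ℕ → CochainComplex AddCommGrpCat.{u} ℤ := fun n => (StC s).obj (rowC Y J ⦋n⦌)
  haveI : ∀ n, (C n).IsStrictlyGE m := fun n => inferInstance
  haveI := mono_rowAugC Y J
  haveI : Mono ((StC s).map (rowAugC Y J)) := mono_map_StC s (rowAugC Y J)
  refine quasiIso_of_rows C (fun n => (StC s).map (rowCD Y J n))
    (fun n => by rw [← Functor.map_comp, rowCD_comp, Functor.map_zero])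
    (fun n => exact_map_StC s _ (rowC_exact Y J hJ n)) m ?_
    ((StC s).map u) ((StC s).map (rowAugC Y J))
    (by rw [← Functor.map_comp, rowAugC_comp, Functor.map_zero])
    (exact_map_StC s _ (rowAugC_exact Y J)) ?_ ?_
  · intro q n x hx
    have hx' : dG q (n + 1) (Φ (n + 1) q x) = 0 := by
      refine (ConcreteCategory.congr_hom (hd q (n + 1)) x).symm.trans ?_
      exact (congrArg (Φ (n + 2) q) hx).trans (map_zero _)
    obtain ⟨y, hy⟩ := (hG q).2.2 n _ hx'
    obtain ⟨y', rfl⟩ := (hΦ n q).2 y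
    refine ⟨y', (hΦ (n + 1) q).1 ?_⟩
    exact (ConcreteCategory.congr_hom (hd q n) y').trans hy
  · intro q x y e
    rw [← Functor.map_comp] at e
    refine (hΦ₀ q).1 ((hG q).1 ?_)
    refine (ConcreteCategory.congr_hom (hε q) x).symm.trans (Eq.trans ?_ (ConcreteCategory.congr_hom (hε q) y))
    exact congrArg (Φ 0 q) e
  · intro q x hx
    have hx' : dG q 0 (Φ 0 q x) = 0 := by
      refine (ConcreteCategory.congr_hom (hd q 0) x).symm.trans ?_
      exact (congrArg (Φ 1 q) hx).trans (map_zero _)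
    obtain ⟨y, hy⟩ := (hG q).2.1 _ hx'
    obtain ⟨y', rfl⟩ := (hΦ₀ q).2 y
    refine ⟨y', (hΦ 0 q).1 ?_⟩
    rw [← Functor.map_comp]
    exact (ConcreteCategory.congr_hom (hε q) y').trans hy

end Main

/-- Proper augmented simplicial spaces with extra degeneracies on the fibres are of descent. -/
theorem isCohDescentTop_of_fibreFam (hY : ProperLevels Y)
    (D : ∀ s : Y.obj (bot SimplexCategory), FibreFam Y s) : FibDesc.IsCohDescentTop Y := by
  haveI := preservesFiniteLimits_Tpull (Y := Y)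
  haveI hP : (eps (topAug Y)).sheafPushforwardContinuous AddCommGrpCat.{u} ((topAugTop Y) (bot SimplexCategory))
      (totAug (topAug Y) (topAugTop Y)) |>.IsRightAdjoint := inferInstance
  refine ⟨inferInstance, hP, inferInstance, inferInstance, fun P => inferInstance,
    preservesFiniteLimits_Tpull, fun K L => ?_⟩
  letI : HasDerivedCategory (BAb Y) := HasDerivedCategory.standard _
  letI : HasDerivedCategory (DAb Y) := HasDerivedCategory.standard _
  haveI := preservesFiniteColimits_Tpull (Y := Y)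
  haveI : (Tpull Y).Additive := additive_of_exact _
  haveI : (Tpull Y).PreservesZeroMorphisms :=
    @Functor.preservesZeroMorphisms_of_additive _ _ _ _ _ _ _ ‹(Tpull Y).Additive›
  refine bijective_of_unitQuasiIso (Tadj Y) ?_ K L
  intro I a hIge hI J b hJge hJ φ hφ
  haveI : ∀ s : Y.obj (bot SimplexCategory), (St s).Additive := fun s => additive_St s
  haveI : ∀ s : Y.obj (bot SimplexCategory), (St s).PreservesHomology := fun s =>
    haveI := (exact_St s).1
    haveI := (exact_St s).2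
    Functor.preservesHomologyOfExact _
  refine quasiIso_of_family (A := BAb Y) (fun s : Y.obj (bot SimplexCategory) => St s)
    (fun f hf => isIso_of_St f hf) _ fun s => ?_
  haveI : CochainComplex.IsStrictlyGE (C := CohTop.Ab (Y.obj (bot SimplexCategory))) I (min a b) :=
    CochainComplex.isStrictlyGE_of_ge (C := CohTop.Ab (Y.obj (bot SimplexCategory))) I (min a b) a (min_le_left _ _)
  haveI : J.IsStrictlyGE (min a b) := J.isStrictlyGE_of_ge (min a b) b (min_le_right _ _)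
  exact quasiIso_St (D s) hY (min a b) hJ φ (transpose (Tadj Y) φ)
    (fun p => transpose_rowAug Y (φ.f p))

end GrothLib.PDesc25
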