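import Groth.Prelude.Def_CohTop
import Groth.Agent.Lib.CohDesc25.RestrPush
import Groth.Agent.Lib.CohDesc25.RanLeg
import Mathlib.Algebra.Category.Grp.Preadditive
import Groth.Agent.Lib.SheafCoh.Sections
import Mathlib.AlgebraicTopology.AlternatingFaceMapComplex
import Mathlib.Algebra.Homology.ShortComplex.PreservesHomology
import Mathlib.Algebra.Homology.ShortComplex.Ab
import Mathlib.CategoryTheory.Preadditive.Injective.Basic

/-!
# The complex of levels of a sheaf on an augmented simplicial space
-/

set_option autoImplicit false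
set_option backward.isDefEq.respectTransparency false
set_option backward.isDefEq.respectTransparency.types false
set_option linter.unusedSectionVars false
set_option linter.style.haveILetI false
set_option maxHeartbeats 1000000

universe u

open CategoryTheory CategoryTheory.Limits Opposite Pseudofunctor Pseudofunctor.CoGrothendieck TopologicalSpace Simplicial

namespace GrothLib.PDesc25

open FibDesc GrothLib.CohDesc25

theorem hom_sum_apply {M N : AddCommGrpCat.{u}} {ι : Type} (s : Finset ι) (f : ι → (M ⟶ N)) (x : M) :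
    (∑ i ∈ s, f i) x = ∑ i ∈ s, f i x :=
  map_sum ((AddMonoidHom.eval x).comp AddCommGrpCat.homAddEquiv.toAddMonoidHom) f s

variable (Y : (WithInitial SimplexCategory)ᵒᵖ ⥤ TopCat.{u})

/-- The space in degree `j`. -/
noncomputable abbrev Sp (j : SimplexCategoryᵒᵖ) : TopCat.{u} := Y.obj ((toAug SimplexCategory).obj j)

/-- The map to the base. -/
noncomputable abbrev proj (j : SimplexCategoryᵒᵖ) : Sp Y j ⟶ Y.obj (bot SimplexCategory) :=
  Y.map (toBot ((toAug SimplexCategory).obj j))

/-- The simplicial map. -/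
noncomputable abbrev sMap {j k : SimplexCategoryᵒᵖ} (θ : j ⟶ k) : Sp Y j ⟶ Sp Y k :=
  Y.map ((toAug SimplexCategory).map θ)

theorem sMap_proj {j k : SimplexCategoryᵒᵖ} (θ : j ⟶ k) : sMap Y θ ≫ proj Y k = proj Y j := by
  rw [← Y.map_comp]
  exact congrArg Y.map (toBot_unique _ _)

/-- The preimage of an open of the base. -/
noncomputable abbrev over (j : SimplexCategoryᵒᵖ) (V : Opens (Y.obj (bot SimplexCategory))) :
    Opens (Sp Y j) :=
  (Opens.map (proj Y j)).obj V

theorem over_le {j k : SimplexCategoryᵒᵖ} (θ : j ⟶ k) {V V' : Opens (Y.obj (bot SimplexCategory))}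
    (h : V ≤ V') : over Y j V ≤ (Opens.map (sMap Y θ)).obj (over Y k V') := by
  intro x hx
  change proj Y k (sMap Y θ x) ∈ V'
  rw [show proj Y k (sMap Y θ x) = proj Y j x from ConcreteCategory.congr_hom (sMap_proj Y θ) x]
  exact h hx

theorem le_over {j k : SimplexCategoryᵒᵖ} {W : Opens (Sp Y j)}
    {V : Opens (Y.obj (bot SimplexCategory))} (θ : j ⟶ k)
    (h : W ≤ (Opens.map (sMap Y θ)).obj (over Y k V)) : W ≤ over Y j V := by
  intro x hx
  change proj Y j x ∈ V
  rw [← show proj Y k (sMap Y θ x) = proj Y j x from ConcreteCategory.congr_hom (sMap_proj Y θ) x]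
  exact h hx

/-- The objects of the total site over an open of the base, as a simplicial object. -/
noncomputable def overFun (V : Opens (Y.obj (bot SimplexCategory))) :
    SimplexCategoryᵒᵖ ⥤ ∫ᶜ (part (topAug Y)) where
  obj j := pObj Y j (over Y j V)
  map θ := pHom Y θ (over_le Y θ le_rfl)
  map_id _ := pHom_ext Y rfl
  map_comp _ _ := pHom_ext Y rfl

/-- The simplicial presheaf of free groups. -/
noncomputable def freeOver (V : Opens (Y.obj (bot SimplexCategory))) :
    SimplicialObject ((∫ᶜ (part (topAug Y)))ᵒᵖ ⥤ AddCommGrpCat.{u}) :=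
  overFun Y V ⋙ yoneda ⋙ (Functor.whiskeringRight _ _ _).obj AddCommGrpCat.free.{u}

/-- Prepending the first vertex. -/
def consΔ {n m : SimplexCategory} (a : n ⟶ m) : SimplexCategory.mk (n.len + 1) ⟶ m :=
  SimplexCategory.Hom.mk
    { toFun := Fin.cases 0 a.toOrderHom
      monotone' := fun i j h => by
        induction i using Fin.cases with
        | zero => exact Fin.zero_le _
        | succ i =>
          induction j using Fin.cases with
          | zero => exact absurd h (by simp [Fin.le_def])
          | succ j => simpa using a.toOrderHom.monotone (Fin.succ_le_succ_iff.1 h) }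

theorem δ_zero_consΔ {n : ℕ} {m : SimplexCategory} (a : ⦋n⦌ ⟶ m) :
    SimplexCategory.δ 0 ≫ consΔ a = a := by
  apply SimplexCategory.Hom.ext
  ext i : 2
  simp [consΔ, SimplexCategory.δ, Fin.succAboveOrderEmb]

theorem δ_succ_consΔ {n : ℕ} {m : SimplexCategory} (a : ⦋n + 1⦌ ⟶ m) (i : Fin (n + 2)) :
    SimplexCategory.δ i.succ ≫ consΔ a = consΔ (SimplexCategory.δ i ≫ a) := by
  apply SimplexCategory.Hom.ext
  ext j : 2
  induction j using Fin.cases with
  | zero => simp [consΔ, SimplexCategory.δ, Fin.succAboveOrderEmb]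
  | succ j => simp [consΔ, SimplexCategory.δ, Fin.succAboveOrderEmb, Fin.succ_succAbove_succ]

variable {Y}

/-- Prepending the first vertex to a map of the total site. -/
noncomputable def consHom {V : Opens (Y.obj (bot SimplexCategory))} {X : ∫ᶜ (part (topAug Y))} {n : ℕ}
    (g : X ⟶ (overFun Y V).obj (op ⦋n⦌)) : X ⟶ (overFun Y V).obj (op ⦋n + 1⦌) :=
  pHom Y (j := X.base) (U := X.fiber) (consΔ g.base.unop).op
    ((le_over Y g.base (le_of_pHom Y (g : pObj Y X.base X.fiber ⟶ pObj Y (op ⦋n⦌) (over Y _ V)))).trans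
      (over_le Y _ le_rfl))

theorem exact_freeOver (V : Opens (Y.obj (bot SimplexCategory))) (n : ℕ) :
    (ShortComplex.mk (AlgebraicTopology.AlternatingFaceMapComplex.objD (freeOver Y V) (n + 1))
      (AlgebraicTopology.AlternatingFaceMapComplex.objD (freeOver Y V) n)
      (AlgebraicTopology.AlternatingFaceMapComplex.d_squared _ n)).Exact := by
  let T := ShortComplex.mk (AlgebraicTopology.AlternatingFaceMapComplex.objD (freeOver Y V) (n + 1))
    (AlgebraicTopology.AlternatingFaceMapComplex.objD (freeOver Y V) n)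
    (AlgebraicTopology.AlternatingFaceMapComplex.d_squared _ n)
  rw [ShortComplex.exact_iff_isZero_homology]
  refine Functor.isZero _ fun X => ?_
  refine IsZero.of_iso ?_ (T.mapHomologyIso ((evaluation _ _).obj X)).symm
  refine (ShortComplex.exact_iff_isZero_homology _).1 ?_
  rw [ShortComplex.ab_exact_iff]
  obtain ⟨X⟩ := X
  let cons : ∀ k : ℕ, FreeAbelianGroup (X ⟶ (overFun Y V).obj (op ⦋k⦌)) →+
      FreeAbelianGroup (X ⟶ (overFun Y V).obj (op ⦋k + 1⦌)) := fun k => FreeAbelianGroup.map consHom
  let D : ∀ k : ℕ, FreeAbelianGroup (X ⟶ (overFun Y V).obj (op ⦋k + 1⦌)) →+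
      FreeAbelianGroup (X ⟶ (overFun Y V).obj (op ⦋k⦌)) := fun k =>
    ((AlgebraicTopology.AlternatingFaceMapComplex.objD (freeOver Y V) k).app (op X)).hom
  have hD : ∀ (k : ℕ) (g : X ⟶ (overFun Y V).obj (op ⦋k + 1⦌)), D k (FreeAbelianGroup.of g) =
      ∑ i : Fin (k + 2), (-1 : ℤ) ^ (i : ℕ) •
        FreeAbelianGroup.of (g ≫ (overFun Y V).map (SimplexCategory.δ i).op) := by
    intro k g
    simp only [D, AlgebraicTopology.AlternatingFaceMapComplex.objD]
    rw [NatTrans.app_sum]
    refine (hom_sum_apply _ _ _).trans ?_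
    refine Finset.sum_congr rfl fun i _ => ?_
    rw [NatTrans.app_zsmul]
    rfl
  have key : ∀ x : FreeAbelianGroup (X ⟶ (overFun Y V).obj (op ⦋n + 1⦌)),
      D (n + 1) (cons (n + 1) x) + cons n (D n x) = x := by
    intro x
    induction x using FreeAbelianGroup.induction_on with
    | zero => simp
    | of g =>
      simp only [cons, FreeAbelianGroup.map_of_apply, hD, map_sum, map_zsmul]
      rw [Fin.sum_univ_succ, add_assoc, ← Finset.sum_add_distrib]
      have e0 : consHom g ≫ (overFun Y V).map (SimplexCategory.δ (0 : Fin (n + 3))).op = g :=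
        pHom_ext Y (Quiver.Hom.unop_inj (δ_zero_consΔ g.base.unop))
      rw [Finset.sum_eq_zero fun i _ => ?_, add_zero, e0]
      · simp
      · have es : consHom g ≫ (overFun Y V).map (SimplexCategory.δ i.succ).op =
            consHom (g ≫ (overFun Y V).map (SimplexCategory.δ i).op) :=
          pHom_ext Y (Quiver.Hom.unop_inj (δ_succ_consΔ g.base.unop i))
        rw [es, Fin.val_succ, pow_succ, mul_neg_one, neg_smul, neg_add_cancel]
    | neg g hg =>
      rw [map_neg, map_neg, map_neg, map_neg, ← neg_add, hg]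
    | add x y hx hy =>
      rw [map_add, map_add, map_add, map_add, add_add_add_comm, hx, hy]
  intro x hx
  refine ⟨cons (n + 1) x, ?_⟩
  have h := key x
  rw [show D n x = 0 from hx, map_zero, add_zero] at h
  exact h

variable (Y)

/-- The level `j` of a sheaf on the total site. -/
noncomputable abbrev lev (j : SimplexCategoryᵒᵖ) : DAb Y ⥤ CohTop.Ab (Sp Y j) :=
  haveI := GrothLib.FibSite.isContinuous_ι (isPreFibSite_part Y) j
  (ι (part (topAug Y)) j).sheafPushforwardContinuous AddCommGrpCat.{u}
    (Opens.grothendieckTopology (Sp Y j)) (totPart (topAug Y) (topAugTop Y))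

/-- The structure map between levels. -/
noncomputable def levMap (J : DAb Y) {j k : SimplexCategoryᵒᵖ} (θ : j ⟶ k) :
    (lev Y k).obj J ⟶ (CohTop.push (sMap Y θ)).obj ((lev Y j).obj J) :=
  ObjectProperty.homMk
    { app := fun W => J.obj.map
        (pHom Y θ (U := (Opens.map (sMap Y θ)).obj W.unop) (V := W.unop) le_rfl).op
      naturality := fun W W' g => by
        refine (J.obj.map_comp _ _).symm.trans (Eq.trans ?_ (J.obj.map_comp _ _))
        exact congrArg (fun t => J.obj.map t) (Quiver.Hom.unop_inj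
          (pHom_ext Y ((Category.comp_id _).trans (Category.id_comp _).symm))) }

theorem levMap_natural {J J' : DAb Y} (f : J ⟶ J') {j k : SimplexCategoryᵒᵖ} (θ : j ⟶ k) :
    (lev Y k).map f ≫ levMap Y J' θ =
      levMap Y J θ ≫ (CohTop.push (sMap Y θ)).map ((lev Y j).map f) := by
  apply Sheaf.hom_ext
  ext W s
  exact (NatTrans.naturality_apply f.hom _ s).symm

/-- The levels, pushed to the base, as a cosimplicial sheaf. -/
noncomputable def rows : DAb Y ⥤ CosimplicialObject (CohTop.Ab (Y.obj (bot SimplexCategory))) where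
  obj J :=
    { obj := fun n => (CohTop.push (proj Y (op n))).obj ((lev Y (op n)).obj J)
      map := fun {n k} a => ObjectProperty.homMk
        { app := fun V => J.obj.map ((overFun Y V.unop).map a.op).op
          naturality := fun V V' g => by
            refine (J.obj.map_comp _ _).symm.trans (Eq.trans ?_ (J.obj.map_comp _ _))
            exact congrArg (fun t => J.obj.map t) (Quiver.Hom.unop_inj
              (pHom_ext Y ((Category.comp_id _).trans (Category.id_comp _).symm))) }
      map_id := fun n => by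
        apply Sheaf.hom_ext
        ext V s
        exact (congrArg (fun t => J.obj.map t s) (congrArg Quiver.Hom.op
          ((overFun Y V.unop).map_id (op n)))).trans (Functor.map_id_apply J.obj _ _)
      map_comp := fun {n k l} a b => by
        apply Sheaf.hom_ext
        ext V s
        exact (congrArg (fun t => J.obj.map t s) (congrArg Quiver.Hom.op
          ((overFun Y V.unop).map_comp b.op a.op))).trans (Functor.map_comp_apply J.obj _ _ s) }
  map {J J'} f :=
    { app := fun n => (CohTop.push (proj Y (op n))).map ((lev Y (op n)).map f)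
      naturality := fun {n k} a => by
        apply Sheaf.hom_ext
        ext V s
        exact NatTrans.naturality_apply f.hom _ s }

/-- The differential between levels. -/
noncomputable abbrev rowD (J : DAb Y) (n : ℕ) :
    ((rows Y).obj J).obj ⦋n⦌ ⟶ ((rows Y).obj J).obj ⦋n + 1⦌ :=
  AlgebraicTopology.AlternatingCofaceMapComplex.objD ((rows Y).obj J) n

theorem rowD_app (J : DAb Y) (n : ℕ) (V : Opens (Y.obj (bot SimplexCategory)))
    (x : J.obj.obj (op ((overFun Y V).obj (op ⦋n⦌)))) :
    (rowD Y J n).hom.app (op V) x = ∑ i : Fin (n + 2), (-1 : ℤ) ^ (i : ℕ) •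
      J.obj.map ((overFun Y V).map (SimplexCategory.δ i).op).op x := by
  simp only [rowD, AlgebraicTopology.AlternatingCofaceMapComplex.objD]
  change ((((sheafToPresheaf _ AddCommGrpCat.{u}) ⋙ (evaluation _ _).obj (op V)).map
    (∑ i : Fin (n + 2), (-1 : ℤ) ^ (i : ℕ) • CosimplicialObject.δ ((rows Y).obj J) i))) x = _
  rw [Functor.map_sum]
  refine (hom_sum_apply _ _ _).trans ?_
  refine Finset.sum_congr rfl fun i _ => ?_
  rw [Functor.map_zsmul]
  rfl

/-- The rows of an injective sheaf are exact in positive degrees. -/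
theorem rowD_exact (J : DAb Y) [Injective J] (n : ℕ) (V : Opens (Y.obj (bot SimplexCategory)))
    (z : J.obj.obj (op ((overFun Y V).obj (op ⦋n + 1⦌))))
    (hz : (rowD Y J (n + 1)).hom.app (op V) z = 0) :
    ∃ y, (rowD Y J n).hom.app (op V) y = z := by
  let Jt := totPart (topAug Y) (topAugTop Y)
  let a := presheafToSheaf Jt AddCommGrpCat.{u}
  haveI := Functor.preservesHomologyOfExact a
  have h := (exact_freeOver V n).map a
  have hd : ∀ (k : ℕ) (φ : SheafCoh.freeY Jt ((overFun Y V).obj (op ⦋k⦌)) ⟶ J),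
      SheafCoh.homFreeY J _ (a.map (AlgebraicTopology.AlternatingFaceMapComplex.objD (freeOver Y V) k) ≫ φ) =
        (rowD Y J k).hom.app (op V) (SheafCoh.homFreeY J _ φ) := by
    intro k φ
    rw [rowD_app]
    simp only [AlgebraicTopology.AlternatingFaceMapComplex.objD]
    rw [Functor.map_sum, Preadditive.sum_comp]
    refine (map_sum (SheafCoh.homFreeY J _) _ _).trans (Finset.sum_congr rfl fun i _ => ?_)
    rw [Functor.map_zsmul, Preadditive.zsmul_comp]
    refine (map_zsmul (SheafCoh.homFreeY J _) _ _).trans (congrArg _ ?_)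
    exact SheafCoh.homFreeY_map J ((overFun Y V).map (SimplexCategory.δ i).op) φ
  let φ := (SheafCoh.homFreeY J ((overFun Y V).obj (op ⦋n + 1⦌))).symm z
  have hφ : a.map (AlgebraicTopology.AlternatingFaceMapComplex.objD (freeOver Y V) (n + 1)) ≫ φ = 0 := by
    refine (SheafCoh.homFreeY J ((overFun Y V).obj (op ⦋n + 2⦌))).injective ((hd (n + 1) φ).trans ?_)
    refine Eq.trans ?_ (map_zero _).symm
    refine Eq.trans (congrArg _ ?_) hz
    exact AddEquiv.apply_symm_apply _ _
  refine ⟨SheafCoh.homFreeY J _ (h.descToInjective φ hφ), ?_⟩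
  rw [← hd n]
  refine (congrArg (SheafCoh.homFreeY J ((overFun Y V).obj (op ⦋n + 1⦌))) (h.comp_descToInjective φ hφ)).trans ?_
  exact AddEquiv.apply_symm_apply _ _

/-- The map from the direct image to the zeroth level. -/
noncomputable def rowAug (J : DAb Y) : (Ppush Y).obj J ⟶ ((rows Y).obj J).obj ⦋0⦌ :=
  ObjectProperty.homMk
    { app := fun V => AddCommGrpCat.ofHom
        (leg J (j := op ⦋0⦌) (W := over Y _ V.unop) (U := V.unop) (aHom Y (toBot _) le_rfl))
      naturality := fun V V' g => by
        ext x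
        refine (rleg_res (incl (topAug Y)) J (c := pObj Y (op ⦋0⦌) (over Y _ V'.unop))
          (aHom Y (toBot _) le_rfl) ((eps (topAug Y)).map g.unop) x).trans ?_
        refine Eq.trans ?_ (map_leg J _ _ x).symm
        exact leg_eq J _ _ x }

theorem rowAug_natural {J J' : DAb Y} (f : J ⟶ J') :
    (Ppush Y).map f ≫ rowAug Y J' = rowAug Y J ≫ ((rows Y).map f).app ⦋0⦌ := by
  apply Sheaf.hom_ext
  ext V x
  exact (app_rleg (incl (topAug Y)) J f (c := pObj Y (op ⦋0⦌) (over Y _ V.unop))
    (aHom Y (toBot _) le_rfl) x).symm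

/-- The vertex `i`. -/
def vtx {m : SimplexCategory} (i : Fin (m.len + 1)) : ⦋0⦌ ⟶ m :=
  SimplexCategory.Hom.mk ⟨fun _ => i, fun _ _ _ => le_rfl⟩

theorem rowAug_d (J : DAb Y) : rowAug Y J ≫ rowD Y J 0 = 0 := by
  apply Sheaf.hom_ext
  ext V x
  refine (rowD_app Y J 0 V.unop _).trans ?_
  rw [Fin.sum_univ_two]
  have e : ∀ i : Fin 2, J.obj.map ((overFun Y V.unop).map (SimplexCategory.δ i).op).op
      ((rowAug Y J).hom.app V x) =
        leg J (j := op ⦋1⦌) (W := over Y _ V.unop) (U := V.unop) (aHom Y (toBot _) le_rfl) x :=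
    fun i => (map_leg J _ _ x).trans (leg_eq J _ _ x)
  refine (congrArg₂ (fun a b => ((-1 : ℤ) ^ ((0 : Fin 2) : ℕ)) • a + ((-1 : ℤ) ^ ((1 : Fin 2) : ℕ)) • b) (e 0) (e 1)).trans ?_
  simp only [Fin.val_zero, pow_zero, one_smul, Fin.val_one, pow_one, neg_smul, add_neg_cancel]
  rfl

theorem rowAug_injective (J : DAb Y) (V : Opens (Y.obj (bot SimplexCategory))) :
    Function.Injective ((rowAug Y J).hom.app (op V)) := by
  intro x y h
  refine leg_ext J x y fun j W b => ?_
  have hW : W ≤ over Y j V := fun w hw => by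
    have h1 := le_of_aHom Y (b : aObj Y ((toAug SimplexCategory).obj j) W ⟶ aObj Y (bot SimplexCategory) V) hw
    rwa [toBot_unique b.base (toBot _)] at h1
  let c : pObj Y j W ⟶ pObj Y (op ⦋0⦌) (over Y _ V) := pHom Y (vtx (m := j.unop) 0).op (hW.trans (over_le Y _ le_rfl))
  have e : ∀ t, leg J b t = J.obj.map c.op ((rowAug Y J).hom.app (op V) t) := fun t =>
    ((map_leg J c _ t).trans (leg_eq J _ _ t)).symm
  rw [e, e, h]

theorem rowAug_exact (J : DAb Y) (V : Opens (Y.obj (bot SimplexCategory)))
    (y : J.obj.obj (op ((overFun Y V).obj (op ⦋0⦌))))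
    (hy : (rowD Y J 0).hom.app (op V) y = 0) :
    ∃ x, (rowAug Y J).hom.app (op V) x = y := by
  let t : ∀ {n : SimplexCategory}, (⦋0⦌ ⟶ n) → J.obj.obj (op ((overFun Y V).obj (op n))) :=
    fun {n} a => J.obj.map ((overFun Y V).map a.op).op y
  have htt : ∀ {n k : SimplexCategory} (a : ⦋0⦌ ⟶ n) (b : n ⟶ k),
      J.obj.map ((overFun Y V).map b.op).op (t a) = t (a ≫ b) := fun a b => by
    refine (Functor.map_comp_apply J.obj _ _ y).symm.trans ?_
    exact congrArg (fun r => J.obj.map r y) (congrArg Quiver.Hom.op ((overFun Y V).map_comp b.op a.op)).symm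
  have h01 : t (SimplexCategory.δ (0 : Fin 2)) = t (SimplexCategory.δ (1 : Fin 2)) := by
    rw [rowD_app, Fin.sum_univ_two] at hy
    simp only [Fin.val_zero, pow_zero, one_smul, Fin.val_one, pow_one, neg_smul] at hy
    exact add_neg_eq_zero.1 hy
  have hv : ∀ {n : SimplexCategory} (i k : Fin (n.len + 1)), t (vtx i) = t (vtx k) := by
    intro n i k
    wlog h : i ≤ k generalizing i k
    · exact (this k i (le_of_not_ge h)).symm
    let e : ⦋1⦌ ⟶ n := SimplexCategory.Hom.mk
      ⟨fun r => if r.val = 0 then i else k, fun r r' hr => by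
        have := Fin.le_def.1 hr
        dsimp only
        split_ifs <;> first | exact le_rfl | exact h | omega⟩
    have e0 : SimplexCategory.δ (0 : Fin 2) ≫ e = vtx k := by
      apply SimplexCategory.Hom.ext
      ext r : 2
      fin_cases r
      rfl
    have e1 : SimplexCategory.δ (1 : Fin 2) ≫ e = vtx i := by
      apply SimplexCategory.Hom.ext
      ext r : 2
      fin_cases r
      rfl
    rw [← e0, ← e1, ← htt, ← htt, h01]
  have hW : ∀ {j : SimplexCategoryᵒᵖ} {W : Opens (Sp Y j)}
      (b : (incl (topAug Y)).obj (pObj Y j W) ⟶ (eps (topAug Y)).obj V), W ≤ over Y j V :=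
    fun {j W} b w hw => by
      have h1 := le_of_aHom Y (b : aObj Y ((toAug SimplexCategory).obj j) W ⟶ aObj Y (bot SimplexCategory) V) hw
      rwa [toBot_unique b.base (toBot _)] at h1
  obtain ⟨x, hx⟩ := exists_of_legs J (U := V)
    (fun j W b => J.obj.map (pInc (hW b)).op (t (vtx (m := j.unop) 0))) (fun j k W W' c b => by
      obtain ⟨n⟩ := j
      obtain ⟨l⟩ := k
      let a : n ⟶ l := c.base.unop
      rw [hv (n := l) 0 (a.toOrderHom 0), show vtx (a.toOrderHom 0) = vtx 0 ≫ a from rfl, ← htt]
      refine (Functor.map_comp_apply J.obj _ _ _).symm.trans (Eq.trans ?_ (Functor.map_comp_apply J.obj _ _ _))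
      exact congrArg (fun r => J.obj.map r (t (vtx 0))) (Quiver.Hom.unop_inj
        (pHom_ext Y ((Category.comp_id _).trans (Category.id_comp _).symm))))
  refine ⟨x, (hx (op ⦋0⦌) (over Y _ V) (aHom Y (toBot _) le_rfl)).trans ?_⟩
  rw [show vtx (m := ⦋0⦌) 0 = 𝟙 _ from SimplexCategory.Hom.ext _ _ (OrderHom.ext _ _ (funext fun r => (Fin.fin_one_eq_zero r).symm))]
  refine (Functor.map_comp_apply J.obj _ _ _).symm.trans ?_
  refine Eq.trans ?_ (Functor.map_id_apply J.obj _ y)
  exact congrArg (fun r => J.obj.map r y) (Quiver.Hom.unop_inj (pHom_ext Y (Category.comp_id _)))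

end GrothLib.PDesc25
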