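import Groth.Agent.Lib.PDesc25.Transfer
import Groth.Agent.Lib.PBC25.StalkDerived

/-!
# Stalks as sections of inverse images to a point
-/

set_option autoImplicit false
set_option backward.isDefEq.respectTransparency false
set_option backward.isDefEq.respectTransparency.types false

universe u

open CategoryTheory CategoryTheory.Limits Opposite TopologicalSpace

namespace GrothLib.PDesc25

open GrothLib.PBC25

/-- A one-point space. -/
abbrev ptSp : TopCat.{u} := TopCat.of PUnit.{u + 1}

variable {S : TopCat.{u}}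

/-- The inclusion of a point. -/
def ptMap (s : S) : ptSp ⟶ S := TopCat.ofHom ⟨fun _ => s, continuous_const⟩

theorem separates_ptMap (s : S) : Separates (ptMap s) :=
  fun x y hxy => (hxy (Subsingleton.elim (α := PUnit.{u + 1}) x y)).elim

theorem isSoft_pt (H : CohTop.Ab ptSp.{u}) : IsSoft H := by
  intro A _ U hAU t
  by_cases hU : PUnit.unit.{u + 1} ∈ U
  · obtain rfl : U = ⊤ := eq_top_iff.2 fun x _ => hU
    exact ⟨t, ⊤, le_rfl, fun _ _ => trivial, rfl⟩
  · exact ⟨0, ⊥, bot_le, fun x hx => (hU (hAU hx)).elim, eq_of_cover _ fun x hx => hx.elim⟩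

/-- The stalk as sections on a point. -/
noncomputable abbrev St (s : S) : CohTop.Ab S ⥤ AddCommGrpCat.{u} :=
  CohTop.pull (ptMap s) ⋙ GrothSS.secAt (Opens.grothendieckTopology ptSp) ⊤

theorem additive_St (s : S) : (St s).Additive :=
  have := additive_pull (ptMap s)
  inferInstance

theorem shortExact_secTop (T : ShortComplex (CohTop.Ab ptSp.{u})) (hT : T.ShortExact) :
    (T.map (GrothSS.secAt (Opens.grothendieckTopology ptSp) ⊤)).ShortExact := by
  refine ShortComplex.ShortExact.mk' ?_ ?_ ?_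
  · rw [ShortComplex.ab_exact_iff]
    exact fun x hx => Cech.sections_exact hT ⊤ x hx
  · exact (AddCommGrpCat.mono_iff_injective _).2 (Cech.sections_injective hT ⊤)
  · exact (AddCommGrpCat.epi_iff_surjective _).2 (surjective_top hT (isSoft_pt _))

theorem exact_secTop :
    PreservesFiniteLimits (GrothSS.secAt (Opens.grothendieckTopology ptSp.{u}) ⊤) ∧
      PreservesFiniteColimits (GrothSS.secAt (Opens.grothendieckTopology ptSp.{u}) ⊤) :=
  (((GrothSS.secAt (Opens.grothendieckTopology ptSp.{u}) ⊤).exact_tfae).out 0 3).1 shortExact_secTop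

theorem exact_St (s : S) : PreservesFiniteLimits (St s) ∧ PreservesFiniteColimits (St s) := by
  have := exact_secTop.{u}.1
  have := exact_secTop.{u}.2
  have := SheafCoh.preservesFiniteLimits_pull (ptMap s)
  have := preservesFiniteColimits_pull (ptMap s)
  exact ⟨comp_preservesFiniteLimits _ _, comp_preservesFiniteColimits _ _⟩

theorem top_le_pt {s : S} {V : Opens S} (h : s ∈ V) :
    (⊤ : Opens ptSp) ≤ (Opens.map (ptMap s)).obj V := fun _ _ => h

/-- A map of sheaves which is bijective on stalks is an isomorphism. -/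
theorem isIso_of_St {F G : CohTop.Ab S} (f : F ⟶ G) (h : ∀ s, IsIso ((St s).map f)) : IsIso f := by
  have hb : ∀ s, Function.Bijective ((St s).map f) := fun s =>
    (ConcreteCategory.isIso_iff_bijective _).1 (h s)
  have hinj : Sheaf.IsLocallyInjective f := ⟨fun {U} z z' he => by
    intro x hx
    have h0 : sec (ptMap x) F (top_le_pt hx) (z - z') = 0 := by
      refine (hb x).1 ?_
      refine (app_sec (ptMap x) F f (top_le_pt hx) (z - z')).trans ?_
      rw [map_sub, show (f.hom.app U) z = (f.hom.app U) z' from he, sub_self, map_zero, map_zero]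
    obtain ⟨V, hV, hm, hz⟩ := sec_zero (ptMap x) F (top_le_pt hx) _ h0
    exact ⟨V, homOfLE hV, sub_eq_zero.1 ((map_sub _ _ _).symm.trans hz),
      hm (show PUnit.unit ∈ (⊤ : Opens ptSp) from trivial)⟩⟩
  have hsurj : Sheaf.IsLocallySurjective f := ⟨fun {U} z => by
    intro x hx
    obtain ⟨t, ht⟩ := (hb x).2 (sec (ptMap x) G (top_le_pt hx) z)
    obtain ⟨V, g, W, hW, hWt, hK, e⟩ :=
      exists_near (ptMap x) F (separates_ptMap x) t isClosed_univ (by simp)
    obtain rfl : W = ⊤ := eq_top_iff.2 fun y _ => hK trivial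
    rw [res_self] at e
    have e' : sec (ptMap x) G hW (f.hom.app (op V) g) = sec (ptMap x) G (top_le_pt hx) z := by
      rw [← app_sec, ← e]
      exact ht
    obtain ⟨N, hN₁, hN₂, hN, eN⟩ := sec_eq (ptMap x) G _ _ _ z e'
    refine ⟨N, homOfLE hN₂, ⟨F.obj.map (homOfLE hN₁).op g, ?_⟩,
      hN (show PUnit.unit ∈ (⊤ : Opens ptSp) from trivial)⟩
    exact (app_res f hN₁ g).trans eN⟩
  exact (Sheaf.isLocallyBijective_iff_isIso _).1 ⟨hinj, hsurj⟩

variable {F X : TopCat.{u}} {p : X ⟶ S} {κ : F ⟶ X} {q : F ⟶ ptSp} {s : S}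

/-- Restriction of stalks of direct images to the fibre. -/
noncomputable def fibreMap (sq : IsPullback κ q p (ptMap s)) (G : CohTop.Ab X) :
    (St s).obj ((CohTop.push p).obj G) ⟶
      ((CohTop.pull κ).obj G).obj.obj (op ((Opens.map q).obj ⊤)) :=
  (tr (a := q) (θ := p) (i := ptMap s) (i' := κ) sq.w.symm (G' := G) (𝟙 _)).hom.app (op ⊤)

theorem isIso_fibreMap (sq : IsPullback κ q p (ptMap s)) (hp : IsProperMap p)
    (hs : ∀ x x' : X, p x = p x' → x ≠ x' →
      ∃ U V : Set X, IsOpen U ∧ IsOpen V ∧ x ∈ U ∧ x' ∈ V ∧ Disjoint U V)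
    (G : CohTop.Ab X) : IsIso (fibreMap sq G) := by
  have := isIso_bc hs G hp sq
  have e : tr (a := q) (θ := p) (i := ptMap s) (i' := κ) sq.w.symm (G' := G) (𝟙 _) = bc sq.w G := by
    refine pull_hom_ext (ptMap s) _ _ fun V t => ?_
    exact (tr_sec sq.w.symm _ le_rfl t).trans (bc_sec sq.w G le_rfl t).symm
  rw [fibreMap, e]
  exact inferInstanceAs (IsIso ((sheafToPresheaf _ _ ⋙ (evaluation _ _).obj (op ⊤)).map (bc sq.w G)))

end GrothLib.PDesc25
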