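import Groth.Agent.Lib.PDesc25.Complexes
import Groth.Agent.Lib.PDesc25.ExtMap
import Groth.Agent.Lib.CohDesc25.Descent
import Groth.Agent.Lib.DescSS19.Main
import Groth.Agent.Lib.GrothSS.HomExt
import Groth.Agent.Lib.GrothSS.Site
import Groth.Agent.Lib.SheafCoh.Terminal
import Groth.Agent.Lib.SheafCoh.Top
import Groth.Agent.Lib.RDerLES.CompAcyclic
import Mathlib.CategoryTheory.Abelian.GrothendieckCategory.EnoughInjectives
import Mathlib.Algebra.Homology.GrothendieckAbelian

/-!
# The spectral sequence of an augmented simplicial space of cohomological descent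
-/

set_option autoImplicit false
set_option backward.isDefEq.respectTransparency false
set_option backward.isDefEq.respectTransparency.types false
set_option linter.unusedSectionVars false
set_option linter.style.haveILetI false
set_option maxHeartbeats 1000000

universe u

open CategoryTheory CategoryTheory.Limits CategoryTheory.Abelian Opposite Pseudofunctor Pseudofunctor.CoGrothendieck TopologicalSpace Simplicial

namespace GrothLib.PDesc25

open FibDesc GrothLib.CohDesc25

variable (Y : (WithInitial SimplexCategory)ᵒᵖ ⥤ TopCat.{u})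

/-- The whole base, as an open. -/
noncomputable abbrev topB : Opens (Y.obj (bot SimplexCategory)) := ⊤

/-- Global sections. -/
noncomputable abbrev secTop (S : TopCat.{u}) : CohTop.Ab S ⥤ AddCommGrpCat.{u} :=
  GrothSS.secAt (Opens.grothendieckTopology S) (⊤ : Opens S)

/-- The global sections of the levels, as a complex. -/
noncomputable def secCx : DAb Y ⥤ CochainComplex AddCommGrpCat.{u} ℕ :=
  rows Y ⋙ AlgebraicTopology.alternatingCofaceMapComplex _ ⋙
    (secTop (Y.obj (bot SimplexCategory))).mapHomologicalComplex (ComplexShape.up ℕ)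

theorem secCx_d (J : DAb Y) (n : ℕ) :
    ((secCx Y).obj J).d n (n + 1) = (rowD Y J n).hom.app (op (topB Y)) := by
  simp [secCx, AlgebraicTopology.alternatingCofaceMapComplex, AlgebraicTopology.AlternatingCofaceMapComplex.obj]

instance : (secCx Y).Additive where
  map_add {J J' f g} := by
    apply HomologicalComplex.hom_ext
    intro n
    rfl


theorem isZero_homology_secCx (J : DAb Y) [Injective J] (n : ℕ) :
    IsZero (((secCx Y).obj J).homology (n + 1)) := by
  refine (HomologicalComplex.exactAt_iff_isZero_homology _ _).1 ?_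
  rw [HomologicalComplex.exactAt_iff' _ n (n + 1) (n + 2) (by simp) (by simp),
    ShortComplex.ab_exact_iff]
  intro z hz
  obtain ⟨y, hy⟩ := rowD_exact Y J n ⊤ z
    ((ConcreteCategory.congr_hom (secCx_d Y J (n + 1)) z).symm.trans hz)
  exact ⟨y, (ConcreteCategory.congr_hom (secCx_d Y J n) y).trans hy⟩

/-- A global section as a cochain of degree zero. -/
noncomputable def augSec (J : DAb Y) :
    (secTop (Y.obj (bot SimplexCategory))).obj ((Ppush Y).obj J) ⟶ ((secCx Y).obj J).X 0 :=
  (rowAug Y J).hom.app (op (topB Y))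

theorem augSec_d (J : DAb Y) : augSec Y J ≫ ((secCx Y).obj J).d 0 1 = 0 := by
  rw [secCx_d]
  exact NatTrans.congr_app (congrArg (fun t => t.hom) (rowAug_d Y J)) (op (topB Y))

/-- A global section as a cocycle. -/
noncomputable def augSecCyc (J : DAb Y) :
    (secTop (Y.obj (bot SimplexCategory))).obj ((Ppush Y).obj J) ⟶ ((secCx Y).obj J).cycles 0 :=
  ((secCx Y).obj J).liftCycles (augSec Y J) 1 (by simp) (augSec_d Y J)

theorem isIso_augSecCyc (J : DAb Y) : IsIso (augSecCyc Y J) := by
  let K := (secCx Y).obj J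
  have hl : ∀ s, K.iCycles 0 (augSecCyc Y J s) = augSec Y J s := fun s =>
    ConcreteCategory.congr_hom (K.liftCycles_i _ _ _ _) s
  have hi : Function.Injective (K.iCycles 0) := (AddCommGrpCat.mono_iff_injective _).1 inferInstance
  rw [ConcreteCategory.isIso_iff_bijective]
  refine ⟨fun a b hab => rowAug_injective Y J ⊤ (show augSec Y J a = augSec Y J b from (hl a).symm.trans ((congrArg _ hab).trans (hl b))),
    fun z => ?_⟩
  obtain ⟨x, hx⟩ := rowAug_exact Y J ⊤ (K.iCycles 0 z)
    ((ConcreteCategory.congr_hom (secCx_d Y J 0) _).symm.trans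
      (ConcreteCategory.congr_hom (K.iCycles_d 0 1) z))
  exact ⟨x, hi ((hl x).trans (show augSec Y J x = _ from hx))⟩

/-- The cohomology in degree zero of the global sections of the levels. -/
noncomputable def h0SecCxIso :
    Ppush Y ⋙ secTop (Y.obj (bot SimplexCategory)) ≅ secCx Y ⋙ DescSS19.h0 AddCommGrpCat.{u} :=
  haveI : ∀ J, IsIso (augSecCyc Y J) := isIso_augSecCyc Y
  NatIso.ofComponents
    (fun J => asIso (augSecCyc Y J) ≪≫ CochainComplex.isoHomologyπ₀ ((secCx Y).obj J))
    (fun {J J'} g => by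
      have h1 : (Ppush Y ⋙ secTop (Y.obj (bot SimplexCategory))).map g ≫ augSecCyc Y J' =
          augSecCyc Y J ≫ HomologicalComplex.cyclesMap ((secCx Y).map g) 0 := by
        rw [← cancel_mono (((secCx Y).obj J').iCycles 0), Category.assoc, Category.assoc]
        erw [HomologicalComplex.cyclesMap_i, HomologicalComplex.liftCycles_i]
        erw [HomologicalComplex.liftCycles_i_assoc]
        exact NatTrans.congr_app (congrArg (fun t => t.hom) (rowAug_natural Y g)) (op (topB Y))
      simp only [Iso.trans_hom, asIso_hom, Category.assoc]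
      erw [reassoc_of% h1]
      exact congrArg (augSecCyc Y J ≫ ·)
        (HomologicalComplex.homologyπ_naturality ((secCx Y).map g) 0).symm)

/-- The free sheaf on the base, pulled back. -/
noncomputable abbrev unitObj : DAb Y :=
  (Tpull Y).obj (SheafCoh.freeY (Opens.grothendieckTopology (Y.obj (bot SimplexCategory))) (topB Y))

/-- Global sections on the base are maps out of the constant sheaf. -/
noncomputable def secPushIso :
    Ppush Y ⋙ secTop (Y.obj (bot SimplexCategory)) ≅ GrothSS.homFun (unitObj Y) :=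
  NatIso.ofComponents
    (fun J => (((Tadj Y).homAddEquiv
        (SheafCoh.freeY (Opens.grothendieckTopology (Y.obj (bot SimplexCategory))) (topB Y)) J).trans
      (SheafCoh.homFreeY ((Ppush Y).obj J) (topB Y))).symm.toAddCommGrpIso)
    (fun {J J'} g => ConcreteCategory.hom_ext _ _ fun x => by
      let Z := SheafCoh.freeY (Opens.grothendieckTopology (Y.obj (bot SimplexCategory))) (topB Y)
      let e : ∀ J : DAb Y, ((Tpull Y).obj Z ⟶ J) ≃+ ((Ppush Y).obj J).obj.obj (op (topB Y)) := fun J =>
        ((Tadj Y).homAddEquiv Z J).trans (SheafCoh.homFreeY ((Ppush Y).obj J) (topB Y))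
      change (e J').symm (((Ppush Y).map g).hom.app (op (topB Y)) x) = (e J).symm x ≫ g
      refine (e J').symm_apply_eq.2 ?_
      let t : Z ⟶ (Ppush Y).obj J := (Tadj Y).homEquiv Z J ((e J).symm x)
      have hx : SheafCoh.homFreeY ((Ppush Y).obj J) (topB Y) t = x := (e J).apply_symm_apply x
      have hn : (Tadj Y).homEquiv Z J' ((e J).symm x ≫ g) = t ≫ (Ppush Y).map g :=
        (Tadj Y).homEquiv_naturality_right ((e J).symm x) g
      refine Eq.trans ?_ (congrArg (SheafCoh.homFreeY ((Ppush Y).obj J') (topB Y)) hn).symm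
      exact (congrArg (((Ppush Y).map g).hom.app (op (topB Y))) hx).symm.trans
        (SheafCoh.homFreeY_comp (topB Y) t ((Ppush Y).map g)).symm)

theorem nonempty_H_iso (hY : FibDesc.IsCohDescentTop Y)
    (F : CohTop.Ab (Y.obj (bot SimplexCategory))) (n : ℕ) :
    Nonempty (AddCommGrpCat.of (CohTop.H F n) ≅
      ((secCx Y ⋙ DescSS19.h0 AddCommGrpCat.{u}).rightDerived n).obj ((Tpull Y).obj F)) := by
  obtain ⟨_, _, _, _, _, _, hff⟩ := hY
  haveI := preservesFiniteLimits_Tpull (Y := Y)
  haveI := preservesFiniteColimits_Tpull (Y := Y)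
  haveI : (Tpull Y).Additive := additive_of_exact _
  let Z := SheafCoh.freeY (Opens.grothendieckTopology (Y.obj (bot SimplexCategory))) (topB Y)
  let e : Ext.{u} Z F n ≃+ Ext.{u} (unitObj Y) ((Tpull Y).obj F) n :=
    AddEquiv.ofBijective ((Tpull Y).mapExtAddHom Z F n)
    (bijective_mapExactFunctor (Tpull Y) hff Z F n)
  exact ⟨(SheafCoh.extPrecompIso (SheafCoh.freeYTerminalIso (isTerminalTop (α := Opens _))) F n).toAddCommGrpIso ≪≫
    (AddEquiv.toAddCommGrpIso (X := AddCommGrpCat.of (Ext.{u} Z F n))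
      (Y := AddCommGrpCat.of (Ext.{u} (unitObj Y) ((Tpull Y).obj F) n)) e) ≪≫
    ((GrothSS.rightDerivedExtFunctorIso (unitObj Y) (secCx Y ⋙ DescSS19.h0 AddCommGrpCat.{u})
      ((h0SecCxIso Y).symm ≪≫ secPushIso Y) n).app ((Tpull Y).obj F)).symm⟩

theorem nonempty_E_iso (F : CohTop.Ab (Y.obj (bot SimplexCategory))) (p q : ℕ) :
    Nonempty (AddCommGrpCat.of (CohTop.H ((CohTop.pull (proj Y (op ⦋p⦌))).obj F) q) ≅
      ((secCx Y ⋙ HomologicalComplex.eval AddCommGrpCat.{u} (ComplexShape.up ℕ) p).rightDerived q).obj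
        ((Tpull Y).obj F)) := by
  haveI := GrothLib.FibSite.isContinuous_ι (isPreFibSite_part Y) (op ⦋p⦌)
  haveI := GrothLib.FibSite.isCocontinuous_ι (isPreFibSite_part Y) (op ⦋p⦌)
  obtain ⟨hl, hr⟩ := exact_lev Y (op ⦋p⦌)
  haveI : (lev Y (op ⦋p⦌)).Additive := additive_of_exact _
  obtain ⟨i⟩ := RDerLES.nonempty_rightDerived_comp_iso (lev Y (op ⦋p⦌)) (secTop (Sp Y (op ⦋p⦌)))
    (fun J hJ k => by
      haveI := injective_lev Y (op ⦋p⦌) J
      exact Functor.isZero_rightDerived_obj_injective_succ _ k _) q ((Tpull Y).obj F)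
  haveI := isIso_levPull Y F (op ⦋p⦌)
  let e : secCx Y ⋙ HomologicalComplex.eval AddCommGrpCat.{u} (ComplexShape.up ℕ) p ≅
      lev Y (op ⦋p⦌) ⋙ secTop (Sp Y (op ⦋p⦌)) :=
    NatIso.ofComponents (fun J => Iso.refl _) (fun {J J'} g => rfl)
  exact ⟨(SheafCoh.HEquivHU _ q (isTerminalTop (α := Opens (Sp Y (op ⦋p⦌))))).toAddCommGrpIso ≪≫
    (GrothSS.rightDerivedSecAtIso (Opens.grothendieckTopology (Sp Y (op ⦋p⦌))) ⊤ _ q).symm ≪≫
    ((secTop (Sp Y (op ⦋p⦌))).rightDerived q).mapIso (asIso (levPull Y F (op ⦋p⦌))) ≪≫ i.symm ≪≫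
    (SheafCoh.rightDerivedCongr e.symm q).app ((Tpull Y).obj F)⟩

/-- The spectral sequence of an augmented simplicial space of cohomological descent. -/
theorem exists_descent_spectralSequence (hY : FibDesc.IsCohDescentTop Y)
    (F : CohTop.Ab (Y.obj (bot SimplexCategory))) :
    ∃ (E : CohomologicalSpectralSequence AddCommGrpCat.{u} 1)
      (a : SpSeq.Abutment E (fun n : ℤ =>
        if 0 ≤ n then AddCommGrpCat.of (CohTop.H F n.toNat) else AddCommGrpCat.of PUnit.{u + 1})),
      (∀ n, a.IsFinite n) ∧ SpSeq.IsBounded E ∧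
      ∀ p q : ℤ, Nonempty ((E.page 1 le_rfl).X (p, q) ≅
        (if 0 ≤ p ∧ 0 ≤ q then
          AddCommGrpCat.of (CohTop.H ((CohTop.pull (proj Y (op ⦋p.toNat⦌))).obj F) q.toNat)
         else AddCommGrpCat.of PUnit.{u + 1})) :=
  DescSS19.exists_of_functor (secCx Y) (fun J hJ n => isZero_homology_secCx Y J n) ((Tpull Y).obj F)
    (fun p q => AddCommGrpCat.of (CohTop.H ((CohTop.pull (proj Y (op ⦋p⦌))).obj F) q))
    (fun n => AddCommGrpCat.of (CohTop.H F n)) (AddCommGrpCat.of PUnit.{u + 1})
    (AddCommGrpCat.isZero_of_subsingleton _) (nonempty_H_iso Y hY F) (nonempty_E_iso Y F)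

end GrothLib.PDesc25
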